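import Cfsg.Agent.Lib.Transfer.ClassThree.Basic
import Cfsg.Agent.S0205

/-!
Tools: involutions inverting an abelian subgroup, coverings by centralisers, cyclic Sylow `2`-subgroups.
-/

set_option autoImplicit false

universe u

namespace Cfsg.Agent.Transfer.ClassThree

open Cfsg Cfsg.Agent

variable {G : Type u} [Group G] [Finite G]

theorem isSolvable_of_not_two_dvd (h : ¬ 2 ∣ Nat.card G) : Group.IsSolvable G :=
  Cfsg.Agent.S0205.result (Nat.not_even_iff_odd.mp (by rwa [even_iff_two_dvd]))

omit [Finite G] in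
/-- An element of order two without fixed points on a normal abelian subgroup inverts it. -/
theorem inverts_of_fpf {A : Subgroup G} [hA : A.Normal] (hab : ∀ u ∈ A, ∀ v ∈ A, u * v = v * u) {t : G}
    (ht : t * t = 1) (hfix : ∀ v ∈ A, Commute t v → v = 1) {v : G} (hv : v ∈ A) : t * v * t⁻¹ = v⁻¹ := by
  have hi : t⁻¹ = t := inv_eq_of_mul_eq_one_right ht
  have hv' : t * v * t⁻¹ ∈ A := hA.conj_mem v hv t
  have h1 : t * (v * (t * v * t⁻¹)) * t⁻¹ = v * (t * v * t⁻¹) := by
    rw [hab v hv _ hv', hi]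
    have h0 : v * (t * v * t) = t * v * t * v := by
      have h00 := hab v hv _ hv'
      rwa [hi] at h00
    calc t * (t * v * t * v) * t = (t * t) * v * (t * v * t) := by group
      _ = v * (t * v * t) := by rw [ht, one_mul]
      _ = t * v * t * v := h0
  have h2 := hfix _ (A.mul_mem hv hv') (mul_inv_eq_iff_eq_mul.1 h1)
  exact (inv_eq_of_mul_eq_one_right h2).symm

/-- If a normal subgroup of odd order contains the products of an involution with its conjugates,
the group is covered by the subgroup and the centraliser. -/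
theorem cover {K : Subgroup G} (hK : ¬ 2 ∣ Nat.card K) {t : G} (ht : t * t = 1) (g : G)
    (hg : t * (g * t * g⁻¹) ∈ K) : ∃ k ∈ K, Commute (k * g) t := by
  have hti : t⁻¹ = t := inv_eq_of_mul_eq_one_right ht
  set t' := g * t * g⁻¹ with ht'
  have ht'2 : t' * t' = 1 := by
    rw [ht']
    calc g * t * g⁻¹ * (g * t * g⁻¹) = g * (t * t) * g⁻¹ := by group
      _ = 1 := by rw [ht]; group
  set p := t * t' with hp
  have hpi : t * p * t⁻¹ = p⁻¹ := by
    rw [hp, hti, mul_inv_rev, hti, inv_eq_of_mul_eq_one_right ht'2, ← mul_assoc, ht, one_mul]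
  obtain ⟨m, hm⟩ : ∃ m, orderOf p = 2 * m + 1 := by
    have h1 : ¬ 2 ∣ orderOf p := fun h => hK (h.trans (K.orderOf_dvd_natCard hg))
    exact ⟨orderOf p / 2, by omega⟩
  set h := p ^ (m + 1) with hh
  have hhh : h * h = p := by
    rw [hh, ← pow_add, show m + 1 + (m + 1) = (2 * m + 1) + 1 by omega, pow_succ, ← hm, pow_orderOf_eq_one,
      one_mul]
  have hth : t * h * t⁻¹ = h⁻¹ := by
    rw [hh, ← conj_pow, hpi, inv_pow]
  refine ⟨h, K.pow_mem hg _, ?_⟩
  show h * g * t = t * (h * g)
  have e1 : t * h = h⁻¹ * t := mul_inv_eq_iff_eq_mul.1 hth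
  have e2 : h * t' = t * h := by
    have e3 : t' = t * p := by rw [hp, ← mul_assoc, ht, one_mul]
    rw [e3, ← hhh]
    calc h * (t * (h * h)) = h * ((t * h) * h) := by group
      _ = h * (h⁻¹ * t * h) := by rw [e1]
      _ = t * h := by group
  calc h * g * t = h * t' * g := by rw [ht']; group
    _ = t * (h * g) := by rw [e2, mul_assoc]

/-- A covering by a soluble normal subgroup and a soluble subgroup. -/
theorem isSolvable_of_cover (K C : Subgroup G) [K.Normal] [hKs : Group.IsSolvable K] [hCs : Group.IsSolvable C]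
    (h : ∀ g : G, ∃ k ∈ K, k * g ∈ C) : Group.IsSolvable G := by
  refine (Group.isSolvable_iff_subgroup_quotient K).mpr ⟨hKs, ?_⟩
  refine Group.isSolvable_of_surjective (f := (QuotientGroup.mk' K).comp C.subtype) fun q => ?_
  obtain ⟨g, rfl⟩ := QuotientGroup.mk'_surjective K q
  obtain ⟨k, hk, hkg⟩ := h g
  refine ⟨⟨k * g, hkg⟩, ?_⟩
  show QuotientGroup.mk' K (k * g) = QuotientGroup.mk' K g
  rw [map_mul, show QuotientGroup.mk' K k = 1 from (QuotientGroup.eq_one_iff k).mpr hk, one_mul]

/-- A group with a cyclic Sylow `2`-subgroup is soluble. -/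
theorem isSolvable_of_cyclic_sylow_two [Fact (Nat.Prime 2)] (P : Sylow 2 G) [IsCyclic (P : Subgroup G)] :
    Group.IsSolvable G := by
  by_cases h2 : 2 ∣ Nat.card G
  swap
  · exact isSolvable_of_not_two_dvd h2
  have hmin : (Nat.card G).minFac = 2 := (Nat.minFac_eq_two_iff _).mpr h2
  have hle := IsCyclic.normalizer_le_centralizer (P := (P : Sylow 2 G)) hmin ‹_›
  have hc := MonoidHom.ker_transferSylow_isComplement' P hle
  set K := (MonoidHom.transferSylow P hle).ker
  have hKodd : ¬ 2 ∣ Nat.card K := by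
    rw [← hc.index_eq_card]
    exact P.not_dvd_index
  haveI := isSolvable_of_not_two_dvd hKodd
  refine (Group.isSolvable_iff_subgroup_quotient K).mpr ⟨inferInstance, ?_⟩
  have hq : IsPGroup 2 (G ⧸ K) := by
    obtain ⟨n, hn⟩ := IsPGroup.iff_card.1 P.isPGroup'
    refine IsPGroup.of_card (n := n) ?_
    rw [← Subgroup.index_eq_card, hc.symm.index_eq_card, hn]
  exact @IsNilpotent.to_isSolvable _ _ hq.isNilpotent

end Cfsg.Agent.Transfer.ClassThree
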