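import Cfsg.Agent.Lib.Transfer.ClassThree.QGroup
import Cfsg.Agent.Lib.Block.PrimeMultiplicative

/-!
Three class sizes: an abelian subgroup of order `a` containing the centraliser of each of its nontrivial
elements.
-/

set_option autoImplicit false
set_option maxHeartbeats 1000000

universe u

namespace Cfsg.Agent.Transfer.ClassThree

open Cfsg Cfsg.Agent Cfsg.Agent.Transfer.ClassDisconnected

variable {G : Type u} [Group G] [Finite G]

/-- An abelian self-centralising subgroup of order `a`. -/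
structure CC (G : Type u) [Group G] (a b c : ℕ) (R : Subgroup G) : Prop where
  t3 : T3 G a b c
  comm : ∀ u ∈ R, ∀ v ∈ R, u * v = v * u
  cenR : ∀ w ∈ R, w ≠ 1 → cen w = R
  cardR : Nat.card R = a
  cardG : Nat.card G = a * b

variable {a b c : ℕ}

theorem T3.maximal (T : T3 G a b c) {y d : G} (hy : cix y = b) (h : Commute y d)
    (hc : (orderOf y).Coprime (orderOf d)) (hd : d ≠ 1) : cen d = cen y ∧ cix d = b := by
  have hdvd : b ∣ cix (y * d) := hy ▸ Subgroup.index_dvd_of_le (cen_mul_le h hc)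
  have hb : cix (y * d) = b := by
    rcases T.mem _ (mul_ne_one_of_coprime hc (T.ne_one_b hy)) with h' | h' | h'
    · exact absurd (h' ▸ hdvd) T.not_ba
    · exact h'
    · exact absurd (h' ▸ hdvd) T.not_bc
  have he : cen (y * d) = cen y := cen_eq_of_le (cen_mul_le h hc) (hb.trans hy.symm)
  have hle : cen y ≤ cen d := he ▸ cen_mul_le' h hc
  have hd2 : cix d ∣ b := hy ▸ Subgroup.index_dvd_of_le hle
  have hdb : cix d = b := by
    rcases T.mem d hd with h' | h' | h'
    · exact absurd (h' ▸ hd2) T.not_ab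
    · exact h'
    · exact absurd (h' ▸ hd2) T.not_cb
  exact ⟨(cen_eq_of_le hle (hy.trans hdb.symm)).symm, hdb⟩

theorem T3.cc_of_cenR (T : T3 G a b c) (R : Subgroup G) (hne : R ≠ ⊥) (hidx : R.index = b)
    (hcomm : ∀ u ∈ R, ∀ v ∈ R, u * v = v * u) (hcen : ∀ w ∈ R, w ≠ 1 → cen w = R) :
    CC G a b c R := by
  have hcop : (Nat.card R).Coprime b := by
    refine Nat.coprime_of_dvd fun s hs h1 h2 => ?_
    haveI := Fact.mk hs
    obtain ⟨⟨w, hwR⟩, hwo⟩ := exists_prime_orderOf_dvd_card' (G := R) s h1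
    rw [Subgroup.orderOf_mk] at hwo
    obtain ⟨P, hwP⟩ := exists_sylow_mem (u := w) (s := s) (i := 1) (by rw [hwo, pow_one])
    obtain ⟨z, -, hz1, -, hzc, -⟩ := exists_sylow_center (hwo ▸ orderOf_dvd_natCard w) P
    have hzR : z ∈ R := by
      rw [← hcen w hwR (ne_one_of_prime hs hwo)]
      exact mem_cen.2 (mem_cen.1 (hzc hwP)).symm
    refine P.not_dvd_index (h2.trans ?_)
    rw [← hidx]
    exact Subgroup.index_dvd_of_le (hcen z hzR hz1 ▸ hzc)
  obtain ⟨x, hx⟩ := T.exA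
  have hD : cen x ⊓ R = ⊥ := (Subgroup.eq_bot_iff_forall _).2 fun e he => by_contra fun he1 => by
    have hxR : x ∈ R := by
      rw [← hcen e he.2 he1]
      exact mem_cen.2 (mem_cen.1 he.1).symm
    refine T.ne_ab ?_
    rw [← hx, show cix x = (cen x).index from rfl, hcen x hxR (T.ne_one_a hx), hidx]
  have hcop' : (cen x).index.Coprime R.index := by
    rw [hidx, show (cen x).index = a from hx]
    exact T.cop
  have h := Grp.HallConv.index_inf_of_coprime hcop'
  rw [hD, Subgroup.index_bot, hidx, show (cen x).index = a from hx] at h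
  refine ⟨T, hcomm, hcen, Nat.eq_of_mul_eq_mul_right (by have := T.hb; omega : 0 < b) ?_, h⟩
  rw [← h, ← hidx, Subgroup.card_mul_index]

theorem T3.exists_cc (T : T3 G a b c) : ∃ R : Subgroup G, CC G a b c R := by
  classical
  by_cases hA : ∃ (y : G) (q i : ℕ) (s : ℕ), q.Prime ∧ orderOf y = q ^ i ∧ cix y = b ∧
      s.Prime ∧ s ≠ q ∧ s ∣ Nat.card (cen y)
  · obtain ⟨y, q, i, s, hq, hyo, hyb, hs, hsq, hsd⟩ := hA
    haveI := Fact.mk hs
    obtain ⟨⟨d, hdy⟩, hdo⟩ := exists_prime_orderOf_dvd_card' (G := cen y) s hsd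
    rw [Subgroup.orderOf_mk] at hdo
    have hd1 := ne_one_of_prime hs hdo
    obtain ⟨hdc, hdb⟩ := T.maximal hyb (mem_cen.1 hdy).symm
      (by rw [hyo, hdo]; exact ((Nat.coprime_primes hq hs).2 (Ne.symm hsq)).pow_left i) hd1
    have hprim : ∀ e ∈ cen y, ∀ r j : ℕ, r.Prime → orderOf e = r ^ j → e ≠ 1 → cen e = cen y := by
      intro e he r j hr ho he1
      by_cases hrq : r = q
      · refine ((T.maximal hdb (mem_cen.1 (hdc.symm ▸ he : e ∈ cen d)).symm ?_ he1).1).trans hdc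
        rw [hdo, ho, hrq]
        exact ((Nat.coprime_primes hs hq).2 hsq).pow_right j
      · refine (T.maximal hyb (mem_cen.1 he).symm ?_ he1).1
        rw [hyo, ho]
        exact Nat.Coprime.pow _ _ ((Nat.coprime_primes hq hr).2 (Ne.symm hrq))
    have hcentral : ∀ g ∈ cen y, g ∈ Subgroup.centralizer (cen y : Set G) := by
      intro g hg
      refine mem_of_primary _ fun j r k hr hjk => ?_
      by_cases h1 : g ^ j = 1
      · rw [h1]; exact one_mem _
      have he := hprim _ (pow_mem hg j) r k hr hjk h1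
      exact Subgroup.mem_centralizer_iff.2 fun p hp =>
        (mem_cen.1 (he.symm ▸ hp : p ∈ cen (g ^ j))).eq
    have hcomm : ∀ u ∈ cen y, ∀ v ∈ cen y, u * v = v * u := fun u hu v hv =>
      (Subgroup.mem_centralizer_iff.1 (hcentral u hu) v hv).symm
    refine ⟨cen y, T.cc_of_cenR _ (fun e => T.ne_one_b hyb ?_) hyb hcomm fun w hw hw1 => ?_⟩
    · have := self_mem_cen y
      rwa [e, Subgroup.mem_bot] at this
    · obtain ⟨r, j, hr, hjo, -⟩ := exists_prime_order_pow hw1
      refine le_antisymm ?_ fun g hg => mem_cen.2 (hcomm g hg w hw)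
      exact (centralizer_le_pow w j).trans (le_of_eq
        (hprim _ (pow_mem hw j) r 1 hr (by rw [hjo, pow_one]) (ne_one_of_prime hr hjo)))
  -- all centralisers of primary elements of class size `b` are primary groups
  push Not at hA
  have hB : ∀ (y : G) (q i : ℕ), q.Prime → orderOf y = q ^ i → cix y = b →
      IsPGroup q (cen y) := fun y q i hq ho hy => IsPGroup.of_card
    (Nat.eq_prime_pow_of_unique_prime_dvd Nat.card_pos.ne'
      fun {d} hd hdd => by_contra fun hne => hA y q i d hq ho hy hd hne hdd)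
  obtain ⟨q, hq, hqa⟩ := Nat.exists_prime_and_dvd T.ha.ne'
  haveI := Fact.mk hq
  obtain ⟨P⟩ : Nonempty (Sylow q G) := inferInstance
  obtain ⟨z, -, hz1, hzo, hzc, hznd⟩ := exists_sylow_center (hqa.trans T.a_dvd_card) P
  have hzb := T.dvd_cases hq hqa hz1 hznd
  have hzP : cen z = (P : Subgroup G) :=
    P.is_maximal' (hB z q 1 hq (by rw [hzo, pow_one]) hzb) hzc
  have hPidx : (P : Subgroup G).index = b := hzP ▸ hzb
  by_cases hPab : IsMulCommutative (P : Subgroup G)
  · refine ⟨P, T.cc_of_cenR _ (P.ne_bot_of_dvd_card (hqa.trans T.a_dvd_card)) hPidx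
      (fun u hu v hv => congrArg Subtype.val (hPab.is_comm.comm ⟨u, hu⟩ ⟨v, hv⟩)) fun w hw hw1 => ?_⟩
    have hle : (P : Subgroup G) ≤ cen w := fun g hg => mem_cen.2
      (congrArg Subtype.val (hPab.is_comm.comm ⟨g, hg⟩ ⟨w, hw⟩))
    have hwb : cix w = b := T.dvd_cases hq hqa hw1 fun hd =>
      P.not_dvd_index (hd.trans (Subgroup.index_dvd_of_le hle))
    refine (Subgroup.eq_of_le_of_card_ge hle ?_).symm
    refine le_of_eq (Nat.eq_of_mul_eq_mul_right (cix_pos w) ?_)
    rw [card_mul_cix w]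
    show Nat.card G = Nat.card (P : Subgroup G) * cix w
    rw [hwb, ← hPidx, Subgroup.card_mul_index]
  -- the nonabelian case
  exfalso
  obtain ⟨n, hn⟩ := IsPGroup.iff_card.1 P.isPGroup'
  have hcardG : Nat.card G = q ^ n * b := by rw [← hn, ← hPidx, Subgroup.card_mul_index]
  have hqb : ¬ q ∣ b := fun h => P.not_dvd_index (hPidx.symm ▸ h)
  obtain ⟨i, -, hi⟩ := (Nat.dvd_prime_pow hq).1 (T.cop.dvd_of_dvd_mul_right (hcardG ▸ T.a_dvd_card))
  refine QG.false ⟨T, hq, ⟨i, hi⟩, hqb, fun y hy => ?_, ⟨n, hcardG⟩⟩ P hPab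
  obtain ⟨j, r, k, hr, ho, hj⟩ := exists_primary_noncentral (g := y) (fun h => T.ne_one_b hy
    (by rwa [T.hZ, Subgroup.mem_bot] at h))
  have hle : cen y ≤ cen (y ^ j) := centralizer_le_pow y j
  have hj1 : y ^ j ≠ 1 := fun e => hj (by rw [e]; exact Subgroup.one_mem _)
  have hd2 : cix (y ^ j) ∣ b := hy ▸ cix_pow_dvd y j
  have hyjb : cix (y ^ j) = b := by
    rcases T.mem _ hj1 with h' | h' | h'
    · exact absurd (h' ▸ hd2) T.not_ab
    · exact h'
    · exact absurd (h' ▸ hd2) T.not_cb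
  haveI := Fact.mk hr
  obtain ⟨m, hm⟩ := (IsPGroup.iff_card (p := r)).1 (hB _ r k hr ho hyjb)
  have hcard := card_mul_cix (y ^ j)
  rw [hm, hyjb, hcardG] at hcard
  have hmn : r ^ m = q ^ n := Nat.eq_of_mul_eq_mul_right (by have := T.hb; omega : 0 < b) hcard
  refine IsPGroup.of_card (n := n) ?_
  have hcy := card_mul_cix y
  rw [hy, hcardG] at hcy
  exact Nat.eq_of_mul_eq_mul_right (by have := T.hb; omega : 0 < b) hcy

namespace CC

variable {R : Subgroup G}

theorem coprime (H : CC G a b c R) : (Nat.card R).Coprime b := H.cardR.symm ▸ H.t3.cop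

theorem ne_bot (H : CC G a b c R) : R ≠ ⊥ := fun e => by
  have h := H.cardR
  rw [e, Subgroup.card_bot] at h
  exact H.t3.ha.ne h

theorem index_R (H : CC G a b c R) : R.index = b := by
  have h := R.card_mul_index
  rw [H.cardR, H.cardG] at h
  exact Nat.eq_of_mul_eq_mul_left (by have := H.t3.ha; omega) h

theorem cix_R (H : CC G a b c R) {w : G} (hw : w ∈ R) (hw1 : w ≠ 1) : cix w = b := by
  show (cen w).index = b
  rw [H.cenR w hw hw1, H.index_R]

theorem card_a (H : CC G a b c R) {x : G} (hx : cix x = a) : Nat.card (cen x) = b := by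
  have h := card_mul_cix x
  rw [hx, H.cardG, mul_comm a b] at h
  exact Nat.eq_of_mul_eq_mul_right (by have := H.t3.ha; omega) h

theorem card_b (H : CC G a b c R) {y : G} (hy : cix y = b) : Nat.card (cen y) = a := by
  have h := card_mul_cix y
  rw [hy, H.cardG] at h
  exact Nat.eq_of_mul_eq_mul_right (by have := H.t3.hb; omega) h

theorem card_c_dvd (H : CC G a b c R) {v : G} (hv : cix v = c) : Nat.card (cen v) ∣ b := by
  obtain ⟨k, hk⟩ := H.t3.adc
  refine ⟨k, ?_⟩
  have h := card_mul_cix v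
  rw [hv, H.cardG, hk] at h
  exact Nat.eq_of_mul_eq_mul_left (by have := H.t3.ha; omega : 0 < a) (by rw [← h]; ring)

theorem eq_one_of_card (H : CC G a b c R) {X : Subgroup G} (hX : Nat.card X ∣ b) {w : G} (hwR : w ∈ R)
    (hwX : w ∈ X) : w = 1 :=
  eq_one_of_mem_inf_coprime (H.coprime.coprime_dvd_right hX) hwR hwX

theorem sylow_le (H : CC G a b c R) {s : ℕ} [Fact s.Prime] (P : Sylow s G) {w : G}
    (hwP : w ∈ (P : Subgroup G)) (hwR : w ∈ R) (hw1 : w ≠ 1) : (P : Subgroup G) ≤ R := by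
  obtain ⟨k, hk⟩ := exists_pow_of_mem P.isPGroup' hwP
  have hk0 : k ≠ 0 := fun e => hw1 (orderOf_eq_one_iff.1 (by rw [hk, e, pow_zero]))
  obtain ⟨z, hzP, hz1, -, hzc, -⟩ := exists_sylow_center
    ((hk ▸ dvd_pow_self s hk0 : s ∣ orderOf w).trans (orderOf_dvd_natCard w)) P
  have hzR : z ∈ R := by
    rw [← H.cenR w hwR hw1]
    exact mem_cen.2 (mem_cen.1 (hzc hwP)).symm
  exact H.cenR z hzR hz1 ▸ hzc

theorem mem_normalizer (H : CC G a b c R) {g w : G} (hw : w ∈ R) (hw1 : w ≠ 1) (hg : g * w * g⁻¹ ∈ R) :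
    g ∈ Subgroup.normalizer (R : Set G) := by
  have h1 := H.cenR w hw hw1
  have h2 := H.cenR _ hg (fun e => hw1 (conj_eq_one_iff.1 e))
  refine Subgroup.mem_normalizer_iff.2 fun v => ?_
  conv_lhs => rw [← h1]
  conv_rhs => rw [← h2]
  exact conj_mem_cen.symm

theorem nilpotent_of_inf_eq_bot (H : CC G a b c R) {X : Subgroup G} [X.Normal] (h : X ⊓ R = ⊥) :
    Group.IsNilpotent X := by
  obtain ⟨w, hw, hw1⟩ := (Subgroup.bot_or_exists_ne_one R).resolve_left H.ne_bot
  obtain ⟨s, j, hs, hso, -⟩ := exists_prime_order_pow hw1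
  haveI := Fact.mk hs
  refine Grp.isNilpotent_of_fpf (b := w ^ j) (p := s) (by rw [← hso, pow_orderOf_eq_one])
    (Subgroup.le_normalizer_of_normal (Subgroup.mem_top _)) ?_
  rw [show Subgroup.centralizer ({w ^ j} : Set G) = R from
    H.cenR _ (pow_mem hw j) (ne_one_of_prime hs hso)]
  exact h

theorem solvable_of_le (H : CC G a b c R) : ∀ (n : ℕ) (X : Subgroup G), Nat.card X = n → X.Normal →
    X ⊓ Subgroup.normalizer (R : Set G) ≤ R → Group.IsSolvable X := by
  intro n
  induction n using Nat.strong_induction_on with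
  | _ n ih =>
    intro X hn hX hle
    haveI := hX
    by_cases h : X ⊓ R = ⊥
    · exact @IsNilpotent.to_isSolvable _ _ (H.nilpotent_of_inf_eq_bot h)
    obtain ⟨w', hw', hw'1⟩ := (Subgroup.bot_or_exists_ne_one _).resolve_left h
    obtain ⟨s, j, hs, hwo, -⟩ := exists_prime_order_pow hw'1
    haveI := Fact.mk hs
    set w := w' ^ j
    have hw1 : w ≠ 1 := ne_one_of_prime hs hwo
    have hwX : w ∈ X := pow_mem hw'.1 j
    have hwR : w ∈ R := pow_mem hw'.2 j
    obtain ⟨P, hwP⟩ := exists_sylow_mem (u := w) (s := s) (i := 1) (by rw [hwo, pow_one])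
    have hPR := H.sylow_le P hwP hwR hw1
    let Q : Sylow s X := (P.isPGroup'.comap_subtype (K := X)).toSylow
      (Grp.sylow_inf_normal_relIndex P X)
    have hQmem : ∀ v : X, v ∈ (Q : Subgroup X) ↔ (v : G) ∈ (P : Subgroup G) := fun v => Iff.rfl
    have hnc : Subgroup.normalizer ((Q : Subgroup X) : Set X) ≤
        Subgroup.centralizer ((Q : Subgroup X) : Set X) := by
      intro g hg
      have hgw : (g : G) * w * (g : G)⁻¹ ∈ R :=
        hPR ((hQmem _).1 ((Subgroup.mem_normalizer_iff.1 hg ⟨w, hwX⟩).1 ((hQmem _).2 hwP)))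
      have hgR : (g : G) ∈ R := hle ⟨g.2, H.mem_normalizer hwR hw1 hgw⟩
      exact Subgroup.mem_centralizer_iff.2 fun v hv =>
        Subtype.ext (H.comm _ (hPR ((hQmem v).1 hv)) _ hgR)
    have hc := MonoidHom.ker_transferSylow_isComplement' Q hnc
    set K := (MonoidHom.transferSylow Q hnc).ker
    have hK : K ≤ pPrimeCore s X := Grp.le_pPrimeCore (MonoidHom.normal_ker _) (by
      rw [← hc.index_eq_card]
      exact ((hs.coprime_iff_not_dvd).2 Q.not_dvd_index).symm)
    set X₁ := (pPrimeCore s X).map X.subtype with hX₁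
    haveI hX₁n : X₁.Normal := inferInstance
    have hlt : Nat.card X₁ < n := by
      have hne : pPrimeCore s X ≠ ⊤ := by
        intro e
        have h1 : (⟨w, hwX⟩ : X) ∈ pPrimeCore s X := e ▸ Subgroup.mem_top _
        have h2 := Subgroup.orderOf_dvd_natCard _ h1
        rw [Subgroup.orderOf_mk, hwo] at h2
        exact Grp.pPrimeCore_not_dvd h2
      rw [hX₁, Subgroup.card_map_of_injective X.subtype_injective, ← hn]
      refine lt_of_le_of_ne (Subgroup.card_le_card_group _) fun e => hne ?_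
      exact Subgroup.eq_top_of_card_eq _ e
    have hX₁s := ih _ hlt X₁ rfl hX₁n
      ((inf_le_inf_right _ (Subgroup.map_subtype_le _)).trans hle)
    haveI : (pPrimeCore s X).Normal := Grp.pPrimeCore_isNormal
    have hq : IsPGroup s (X ⧸ pPrimeCore s X) := by
      obtain ⟨k, hk⟩ := IsPGroup.iff_card.1 Q.isPGroup'
      have hd : (pPrimeCore s X).index ∣ s ^ k := by
        rw [← hk, ← hc.symm.index_eq_card]
        exact Subgroup.index_dvd_of_le hK
      obtain ⟨k', -, hk'⟩ := (Nat.dvd_prime_pow hs).1 hd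
      exact IsPGroup.of_card (n := k') (by rw [← Subgroup.index_eq_card, hk'])
    refine (Group.isSolvable_iff_subgroup_quotient (pPrimeCore s X)).mpr
      ⟨?_, @IsNilpotent.to_isSolvable _ _ hq.isNilpotent⟩
    haveI := hX₁s
    exact Group.isSolvable_of_isSolvable_injective
      (f := (Subgroup.equivMapOfInjective (pPrimeCore s X) _ X.subtype_injective).toMonoidHom)
      (MulEquiv.injective _)

theorem frattini (H : CC G a b c R) {X : Subgroup G} [X.Normal] (h : X ⊓ R ≠ ⊥) :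
    ∀ g : G, ∃ k ∈ X, k * g ∈ Subgroup.normalizer (R : Set G) := by
  obtain ⟨w', hw', hw'1⟩ := (Subgroup.bot_or_exists_ne_one _).resolve_left h
  obtain ⟨s, j, hs, hwo, -⟩ := exists_prime_order_pow hw'1
  haveI := Fact.mk hs
  set w := w' ^ j
  have hw1 : w ≠ 1 := ne_one_of_prime hs hwo
  have hwX : w ∈ X := pow_mem hw'.1 j
  have hwR : w ∈ R := pow_mem hw'.2 j
  obtain ⟨P, hwP⟩ := exists_sylow_mem (u := w) (s := s) (i := 1) (by rw [hwo, pow_one])
  have hPR := H.sylow_le P hwP hwR hw1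
  let Q : Sylow s X := (P.isPGroup'.comap_subtype (K := X)).toSylow (Grp.sylow_inf_normal_relIndex P X)
  set M := Subgroup.normalizer (((Q : Subgroup X).map X.subtype : Subgroup G) : Set G)
  have hle : M ≤ Subgroup.normalizer (R : Set G) := by
    intro g hg
    refine H.mem_normalizer hwR hw1 ?_
    obtain ⟨v, hv, hve⟩ := (Subgroup.mem_normalizer_iff.1 hg w).1 ⟨⟨w, hwX⟩, hwP, rfl⟩
    rw [← hve]
    exact hPR hv
  intro g
  have hg : g ∈ ((M ⊔ X : Subgroup G) : Set G) := by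
    rw [Sylow.normalizer_sup_eq_top Q]
    exact Subgroup.mem_top g
  rw [sup_comm, Subgroup.normal_mul] at hg
  obtain ⟨k, hk, m, hm, rfl⟩ := hg
  exact ⟨k⁻¹, X.inv_mem hk, by rw [inv_mul_cancel_left]; exact hle hm⟩

/-- A proper dichotomy for normal subgroups meeting `R`. -/
theorem le_or_solvable (H : CC G a b c R) {X : Subgroup G} [hX : X.Normal] :
    R ≤ X ∨ Group.IsSolvable X := by
  classical
  by_cases hle : X ⊓ Subgroup.normalizer (R : Set G) ≤ R
  · exact Or.inr (H.solvable_of_le _ X rfl hX hle)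
  left
  obtain ⟨n, hn, hnR⟩ := SetLike.not_le_iff_exists.1 hle
  have hnn : ∀ r ∈ R, n * r * n⁻¹ ∈ R := fun r hr => (Subgroup.mem_normalizer_iff.1 hn.2 r).1 hr
  let f : R → R := fun r => ⟨n * r.1 * n⁻¹ * r.1⁻¹, R.mul_mem (hnn _ r.2) (R.inv_mem r.2)⟩
  have hinj : Function.Injective f := by
    intro r r' h
    by_contra hne
    have h' : n * r.1 * n⁻¹ * r.1⁻¹ = n * r'.1 * n⁻¹ * r'.1⁻¹ := congrArg Subtype.val h
    have hd : r'.1⁻¹ * r.1 ∈ R := R.mul_mem (R.inv_mem r'.2) r.2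
    have hd1 : r'.1⁻¹ * r.1 ≠ 1 := fun e => hne (Subtype.ext (inv_mul_eq_one.1 e).symm)
    refine hnR (H.cenR _ hd hd1 ▸ mem_cen.2 (mul_inv_eq_iff_eq_mul.1 ?_))
    have e1 : n * r'.1⁻¹ * n⁻¹ = (n * r'.1 * n⁻¹)⁻¹ := by group
    calc n * (r'.1⁻¹ * r.1) * n⁻¹ = (n * r'.1 * n⁻¹)⁻¹ * (n * r.1 * n⁻¹ * r.1⁻¹) * r.1 := by group
      _ = (n * r'.1 * n⁻¹)⁻¹ * (n * r'.1 * n⁻¹ * r'.1⁻¹) * r.1 := by rw [h']
      _ = r'.1⁻¹ * r.1 := by group
  intro r hr
  obtain ⟨r', hr'⟩ := (Finite.surjective_of_injective hinj) ⟨r, hr⟩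
  have hr'' : n * r'.1 * n⁻¹ * r'.1⁻¹ = r := congrArg Subtype.val hr'
  rw [← hr'', show n * r'.1 * n⁻¹ * r'.1⁻¹ = n * (r'.1 * n⁻¹ * r'.1⁻¹) by group]
  exact X.mul_mem hn.1 (hX.conj_mem _ (X.inv_mem hn.1) _)

theorem not_normal (H : CC G a b c R) : ¬ R.Normal := by
  intro hR
  have T := H.t3
  obtain ⟨x, hx⟩ := T.exA
  have hHb := H.card_a hx
  have hRH : ∀ {w : G}, w ∈ R → w ∈ cen x → w = 1 := fun hwR hwx => H.eq_one_of_card hHb.dvd hwR hwx
  have hcop : R.index.Coprime (cen x).index := by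
    rw [H.index_R, show (cen x).index = a from hx]
    exact T.cop.symm
  have hfac : ∀ g : G, ∃ h ∈ cen x, ∃ r ∈ R, g = h * r := fun g =>
    Grp.HallConv.exists_mul_of_coprime hcop g
  haveI : Group.IsSolvable R := Group.isSolvable_of_comm fun u v => Subtype.ext (H.comm u u.2 v v.2)
  have hsub : ∀ u ∈ cen x, u ≠ 1 → cen u ≤ cen x := by
    intro u hu hu1 g hg
    obtain ⟨h, hh, r, hr, rfl⟩ := hfac g
    have hd : (h⁻¹ * u * h)⁻¹ * u ∈ cen x :=
      mul_mem (inv_mem (mul_mem (mul_mem (inv_mem hh) hu) hh)) hu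
    have e : r * u = h⁻¹ * u * h * r := by
      calc r * u = h⁻¹ * (h * r * u) := by group
        _ = h⁻¹ * (u * (h * r)) := by rw [(mem_cen.1 hg).eq]
        _ = h⁻¹ * u * h * r := by group
    have hd' : (h⁻¹ * u * h)⁻¹ * u = ((h⁻¹ * u * h)⁻¹ * r⁻¹ * (h⁻¹ * u * h)) * r := by
      calc (h⁻¹ * u * h)⁻¹ * u = (h⁻¹ * u * h)⁻¹ * r⁻¹ * (r * u) := by group
        _ = _ := by rw [e]; group
    have hdR : (h⁻¹ * u * h)⁻¹ * u ∈ R := by
      rw [hd']
      have h1 := hR.conj_mem _ (R.inv_mem hr) (h⁻¹ * u * h)⁻¹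
      rw [inv_inv] at h1
      exact R.mul_mem h1 hr
    have h1 := inv_mul_eq_one.1 (hRH hdR hd)
    rw [h1] at e
    have hr1 : r = 1 := by
      by_contra hr1
      exact hu1 (hRH (H.cenR r hr hr1 ▸ mem_cen.2 (show u * r = r * u from e.symm)) hu)
    rw [hr1, mul_one]
    exact hh
  have hHs : Group.IsSolvable (cen x) := by
    refine isSolvable_two (c / a) fun u => ?_
    by_cases hu1 : u = 1
    · exact Or.inl (cix_eq_one.2 (hu1 ▸ Subgroup.one_mem _))
    have hu1' : (u : G) ≠ 1 := fun e => hu1 (Subtype.ext e)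
    have hrel : (cen (u : G)).subgroupOf (cen x) = Subgroup.centralizer ({u} : Set (cen x)) := by
      ext g
      rw [Subgroup.mem_subgroupOf, mem_cen, Subgroup.mem_centralizer_singleton_iff]
      exact ⟨fun hg => Subtype.ext hg, fun hg => congrArg Subtype.val hg⟩
    have hidx : cix u * a = cix (u : G) := by
      rw [show cix u = (cen (u : G)).relIndex (cen x) by
          rw [show cix u = (Subgroup.centralizer ({u} : Set (cen x))).index from rfl, ← hrel]; rfl,
        ← hx]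
      exact Subgroup.relIndex_mul_index (hsub u u.2 hu1')
    rcases T.mem (u : G) hu1' with e | e | e
    · exact Or.inl (Nat.eq_of_mul_eq_mul_right (by have := T.ha; omega : 0 < a)
        (by rw [hidx, e, one_mul]))
    · exact absurd (e ▸ hidx ▸ dvd_mul_left a (cix u)) T.not_ab
    · exact Or.inr (by rw [← e, ← hidx, Nat.mul_div_cancel _ (by have := T.ha; omega)])
  haveI := hHs
  refine T.hns (isSolvable_of_cover R (cen x) fun g => ?_)
  obtain ⟨h, hh, r, hr, hg⟩ := hfac g⁻¹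
  refine ⟨r, hr, ?_⟩
  have : r * g = h⁻¹ := by
    rw [show g = (g⁻¹)⁻¹ from (inv_inv g).symm, hg]
    group
  rw [this]
  exact inv_mem hh

theorem eq_bot_of_le (H : CC G a b c R) {V : Subgroup G} [hV : V.Normal] (hle : V ≤ R) : V = ⊥ := by
  by_contra hne
  obtain ⟨v, hv, hv1⟩ := (Subgroup.bot_or_exists_ne_one V).resolve_left hne
  have hC : Subgroup.centralizer (V : Set G) = R := by
    refine le_antisymm (fun g hg => ?_) fun g hg => Subgroup.mem_centralizer_iff.2 fun u hu =>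
      H.comm u (hle hu) g hg
    rw [← H.cenR v (hle hv) hv1]
    exact mem_cen.2 (Subgroup.mem_centralizer_iff.1 hg v hv).symm
  exact H.not_normal (hC ▸ Subgroup.normal_centralizer)

theorem pCore_inf (H : CC G a b c R) (s : ℕ) [hs : Fact s.Prime] : pCore s G ⊓ R = ⊥ := by
  by_contra h
  obtain ⟨w, hw, hw1⟩ := (Subgroup.bot_or_exists_ne_one _).resolve_left h
  haveI : (pCore s G).Normal := Grp.pCore_isNormal
  obtain ⟨P⟩ : Nonempty (Sylow s G) := inferInstance
  have hle := Grp.pCore_le_sylow (p := s) P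
  have := H.eq_bot_of_le (hle.trans (H.sylow_le P (hle hw.1) hw.2 hw1))
  rw [this, bot_inf_eq] at h
  exact h rfl

end CC

end Cfsg.Agent.Transfer.ClassThree
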