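import Cfsg.Agent.Lib.Transfer.ClassDisconnected
import Cfsg.Agent.Lib.Grp.Cores
import Cfsg.Agent.Lib.Grp.FpfPrime
import Cfsg.Agent.Lib.Grp.Frattini
import Cfsg.Agent.S4134

/-!
Centreless groups with three nontrivial class sizes `a`, `b`, `c`, where `a` divides `c` and is prime
to `b`: basic lemmas.
-/

set_option autoImplicit false
set_option maxHeartbeats 1000000

open scoped Pointwise

universe u

namespace Cfsg.Agent.Transfer.ClassThree

open Cfsg Cfsg.Agent Cfsg.Agent.Transfer.ClassDisconnected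

variable {G : Type u} [Group G] [Finite G]

/-- The centraliser. -/
abbrev cen (x : G) : Subgroup G := Subgroup.centralizer ({x} : Set G)

theorem mem_cen {g x : G} : g ∈ cen x ↔ Commute g x := Subgroup.mem_centralizer_singleton_iff

theorem self_mem_cen (x : G) : x ∈ cen x := mem_cen.2 (Commute.refl x)

theorem card_mul_cix (w : G) : Nat.card (cen w) * cix w = Nat.card G :=
  (Subgroup.centralizer ({w} : Set G)).card_mul_index

theorem cen_eq_of_le {u v : G} (h : cen u ≤ cen v) (he : cix u = cix v) : cen u = cen v := by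
  refine Subgroup.eq_of_le_of_card_ge h (le_of_eq ?_)
  have h1 := card_mul_cix u
  rw [← card_mul_cix v, he] at h1
  exact (Nat.eq_of_mul_eq_mul_right (cix_pos v) h1).symm

theorem cen_mul_le {u v : G} (h : Commute u v) (hc : (orderOf u).Coprime (orderOf v)) :
    cen (u * v) ≤ cen u := by
  obtain ⟨m, hm⟩ := Nat.chineseRemainder hc 1 0
  have hp : (u * v) ^ m = u := by
    rw [h.mul_pow, (pow_eq_pow_iff_modEq.2 hm.1 : u ^ m = u ^ 1),
      (pow_eq_pow_iff_modEq.2 hm.2 : v ^ m = v ^ 0), pow_one, pow_zero, mul_one]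
  have := centralizer_le_pow (u * v) m
  rwa [hp] at this

theorem cen_mul_le' {u v : G} (h : Commute u v) (hc : (orderOf u).Coprime (orderOf v)) :
    cen (u * v) ≤ cen v :=
  h.eq ▸ cen_mul_le h.symm hc.symm

theorem mul_ne_one_of_coprime {u v : G} (hc : (orderOf u).Coprime (orderOf v)) (hu : u ≠ 1) :
    u * v ≠ 1 := by
  intro h1
  rw [eq_inv_of_mul_eq_one_left h1, orderOf_inv, Nat.coprime_self] at hc
  exact hu (by rw [eq_inv_of_mul_eq_one_left h1, orderOf_eq_one_iff.1 hc, inv_one])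

theorem cix_conj (g w : G) : cix (g * w * g⁻¹) = cix w := by
  rw [← ncard_cl, ← ncard_cl w]
  have h : IsConj w (g * w * g⁻¹) := isConj_iff.2 ⟨g, rfl⟩
  exact congrArg Set.ncard (Set.ext fun y => ⟨fun hy => h.trans hy, fun hy => h.symm.trans hy⟩)

theorem conj_mem_cen {g u x : G} : g * u * g⁻¹ ∈ cen (g * x * g⁻¹) ↔ u ∈ cen x := by
  rw [mem_cen, mem_cen]
  exact ⟨fun h => by
    show u * x = x * u
    calc u * x = g⁻¹ * (g * u * g⁻¹ * (g * x * g⁻¹)) * g := by group
      _ = g⁻¹ * (g * x * g⁻¹ * (g * u * g⁻¹)) * g := by rw [h.eq]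
      _ = x * u := by group, fun h => by
    show g * u * g⁻¹ * (g * x * g⁻¹) = g * x * g⁻¹ * (g * u * g⁻¹)
    calc g * u * g⁻¹ * (g * x * g⁻¹) = g * (u * x) * g⁻¹ := by group
      _ = g * (x * u) * g⁻¹ := by rw [h.eq]
      _ = _ := by group⟩

theorem orderOf_conj' (g x : G) : orderOf (g * x * g⁻¹) = orderOf x :=
  MulEquiv.orderOf_eq (MulAut.conj g) x

theorem exists_prime_order_pow {u : G} (hu : u ≠ 1) :
    ∃ s j : ℕ, s.Prime ∧ orderOf (u ^ j) = s ∧ s ∣ orderOf u := by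
  obtain ⟨s, hs, hd⟩ := Nat.exists_prime_and_dvd (mt orderOf_eq_one_iff.1 hu)
  exact ⟨s, orderOf u / s, hs, orderOf_pow_orderOf_div (orderOf_pos u).ne' hd, hd⟩

theorem ne_one_of_prime {u : G} {s : ℕ} (hs : s.Prime) (h : orderOf u = s) : u ≠ 1 := fun e =>
  hs.ne_one (by rw [← h, e, orderOf_one])

theorem ne_of_mem_prime {s i r j : ℕ} {u v : G} (hs : s.Prime) (hr : r.Prime) (hu : orderOf u = s ^ i)
    (hv : orderOf v = r ^ j) (h : s ≠ r) : (orderOf u).Coprime (orderOf v) := by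
  rw [hu, hv]
  exact Nat.Coprime.pow _ _ ((Nat.coprime_primes hs hr).2 h)

theorem isPGroup_zpowers {u : G} {s i : ℕ} (h : orderOf u = s ^ i) :
    IsPGroup s (Subgroup.zpowers u) :=
  IsPGroup.of_card (n := i) (by rw [Nat.card_zpowers, h])

theorem exists_sylow_mem {u : G} {s i : ℕ} [Fact s.Prime] (h : orderOf u = s ^ i) :
    ∃ P : Sylow s G, u ∈ (P : Subgroup G) := by
  obtain ⟨P, hP⟩ := (isPGroup_zpowers h).exists_le_sylow
  exact ⟨P, hP (Subgroup.mem_zpowers u)⟩

theorem exists_pow_of_mem {s : ℕ} [Fact s.Prime] {Q : Subgroup G} (hQ : IsPGroup s Q) {u : G}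
    (hu : u ∈ Q) : ∃ i, orderOf u = s ^ i := by
  obtain ⟨i, hi⟩ := IsPGroup.iff_orderOf.1 hQ ⟨u, hu⟩
  exact ⟨i, by rwa [Subgroup.orderOf_mk] at hi⟩

theorem eq_one_of_mem_inf_coprime {A B : Subgroup G} (h : (Nat.card A).Coprime (Nat.card B)) {u : G}
    (ha : u ∈ A) (hb : u ∈ B) : u = 1 :=
  orderOf_eq_one_iff.1 (Nat.eq_one_of_dvd_coprimes h (A.orderOf_dvd_natCard ha) (B.orderOf_dvd_natCard hb))

/-- A normal `s`-subgroup is centralised by every element whose class size is prime to `s`. -/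
theorem le_cen_of_normal {s : ℕ} [Fact s.Prime] {Q : Subgroup G} [Q.Normal] (hQ : IsPGroup s Q) {u : G}
    (hu : ¬ s ∣ cix u) : Q ≤ cen u := by
  obtain ⟨P, hP⟩ := exists_sylow_le_centralizer hu
  exact (hQ.le_sylow_of_normal P).trans hP

theorem normal_inf_sylow_center {s : ℕ} [hs : Fact s.Prime] {Q : Subgroup G} [Q.Normal] (P : Sylow s G)
    (h : Q ⊓ (P : Subgroup G) ≠ ⊥) :
    ∃ z : G, z ∈ Q ∧ z ∈ (P : Subgroup G) ∧ z ≠ 1 ∧ orderOf z = s ∧
      (P : Subgroup G) ≤ cen z ∧ ¬ s ∣ cix z := by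
  have hn : (Q.subgroupOf (P : Subgroup G)).Normal := inferInstance
  have hne : Q.subgroupOf (P : Subgroup G) ≠ ⊥ := by
    rw [Ne, Subgroup.subgroupOf_eq_bot, disjoint_iff]
    exact h
  haveI : Nontrivial (P : Subgroup G) :=
    (Subgroup.nontrivial_iff_ne_bot _).2 fun e => h (by rw [e, inf_bot_eq])
  obtain ⟨z, hz, hz1⟩ := (Subgroup.bot_or_exists_ne_one
    (Q.subgroupOf (P : Subgroup G) ⊓ Subgroup.center (P : Subgroup G))).resolve_left
    (haveI := P.isPGroup'.isNilpotent; Grp.inf_center_ne_bot _ hne)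
  obtain ⟨i, hi⟩ := IsPGroup.iff_orderOf.1 P.isPGroup' z
  have hi0 : i ≠ 0 := fun e => hz1 (orderOf_eq_one_iff.1 (by rw [hi, e, pow_zero]))
  set w := z ^ (orderOf z / s) with hw
  have hwo : orderOf w = s := orderOf_pow_orderOf_div (orderOf_pos z).ne'
    (by rw [hi]; exact dvd_pow_self s hi0)
  have hwm : w ∈ Q.subgroupOf (P : Subgroup G) ⊓ Subgroup.center (P : Subgroup G) :=
    Subgroup.pow_mem _ hz _
  have hcen : (P : Subgroup G) ≤ cen (w : G) := fun p hp => mem_cen.2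
    (congrArg Subtype.val (Subgroup.mem_center_iff.1 hwm.2 ⟨p, hp⟩))
  refine ⟨w, hwm.1, w.2, ne_one_of_prime hs.out (by rw [Subgroup.orderOf_coe, hwo]),
    by rw [Subgroup.orderOf_coe, hwo], hcen, fun hd => P.not_dvd_index ?_⟩
  exact hd.trans (Subgroup.index_dvd_of_le hcen)

/-- For every prime divisor some element has class size prime to it. -/
theorem exists_sylow_center {r : ℕ} [hr : Fact r.Prime] (hd : r ∣ Nat.card G) (P : Sylow r G) :
    ∃ z : G, z ∈ (P : Subgroup G) ∧ z ≠ 1 ∧ orderOf z = r ∧ (P : Subgroup G) ≤ cen z ∧ ¬ r ∣ cix z := by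
  obtain ⟨z, -, h⟩ := normal_inf_sylow_center (Q := ⊤) P
    (by rw [top_inf_eq]; exact P.ne_bot_of_dvd_card hd)
  exact ⟨z, h⟩

/-- A group with at most one nontrivial class size is soluble. -/
theorem isSolvable_two {H : Type u} [Group H] [Finite H] (k : ℕ)
    (h : ∀ u : H, cix u = 1 ∨ cix u = k) : Group.IsSolvable H := by
  classical
  by_cases hex : 1 < k ∧ ∃ u : H, cix u = k
  swap
  · have hab : ∀ u : H, u ∈ Subgroup.center H := by
      intro u
      rcases h u with h1 | h1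
      · exact cix_eq_one.1 h1
      · by_contra hc
        have := cix_pos u
        have h2 : cix u ≠ 1 := fun e => hc (cix_eq_one.1 e)
        exact hex ⟨by omega, u, h1⟩
    exact Group.isSolvable_of_comm fun u v => Subgroup.mem_center_iff.1 (hab v) u
  obtain ⟨hk, hex⟩ := hex
  obtain ⟨p, hp, i, -, hP⟩ := Cfsg.Agent.S4134.result k hk h hex
  obtain ⟨P⟩ : Nonempty (Sylow p H) := inferInstance
  obtain ⟨hPn, ⟨N, hNn, hNc, hNab, hcomm⟩, -⟩ := hP P
  haveI := hPn
  haveI := hNn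
  haveI := hNab
  refine (Group.isSolvable_iff_subgroup_quotient N).mpr ⟨Group.isSolvable_of_comm fun u v => IsMulCommutative.is_comm.comm u v, ?_⟩
  have hq : IsPGroup p (H ⧸ N) := by
    obtain ⟨n, hn⟩ := IsPGroup.iff_card.1 P.isPGroup'
    refine IsPGroup.of_card (n := n) ?_
    rw [← Subgroup.index_eq_card, hNc.symm.index_eq_card, hn]
  exact @IsNilpotent.to_isSolvable _ _ hq.isNilpotent

/-- Three class sizes: `a` properly divides `c` and is prime to `b`. -/
structure T3 (G : Type u) [Group G] (a b c : ℕ) : Prop where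
  mem : ∀ w : G, w ≠ 1 → cix w = a ∨ cix w = b ∨ cix w = c
  exA : ∃ w : G, cix w = a
  exB : ∃ w : G, cix w = b
  exC : ∃ w : G, cix w = c
  cop : a.Coprime b
  adc : a ∣ c
  ne_ac : a ≠ c
  ha : 1 < a
  hb : 1 < b
  not_cb : ¬ c ∣ b
  ne_mul : c ≠ a * b
  hZ : Subgroup.center G = ⊥
  hns : ¬ Group.IsSolvable G

namespace T3

variable {a b c : ℕ}

omit [Finite G] in
theorem ne_ab (T : T3 G a b c) : a ≠ b := fun h => by
  have := T.cop
  rw [h, Nat.coprime_self] at this
  exact T.hb.ne' this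

omit [Finite G] in
theorem ne_cb (T : T3 G a b c) : c ≠ b := fun h => T.not_cb (h ▸ dvd_rfl)

omit [Finite G] in
theorem not_ab (T : T3 G a b c) : ¬ a ∣ b := fun h =>
  T.ha.ne' (Nat.eq_one_of_dvd_coprimes T.cop dvd_rfl h)

omit [Finite G] in
theorem not_ba (T : T3 G a b c) : ¬ b ∣ a := fun h =>
  T.hb.ne' (Nat.eq_one_of_dvd_coprimes T.cop h dvd_rfl)

omit [Finite G] in
theorem not_ca (T : T3 G a b c) : ¬ c ∣ a := fun h => T.ne_ac (Nat.dvd_antisymm T.adc h)

theorem cix_ne_one (T : T3 G a b c) {w : G} (hw : w ≠ 1) : cix w ≠ 1 := fun h => by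
  have h1 := cix_eq_one.1 h
  rw [T.hZ, Subgroup.mem_bot] at h1
  exact hw h1

theorem ne_one (T : T3 G a b c) {w : G} (h : cix w = a ∨ cix w = b ∨ cix w = c) : w ≠ 1 := by
  rintro rfl
  have h1 : cix (1 : G) = 1 := cix_eq_one.2 (Subgroup.one_mem _)
  have := T.ha
  have := T.hb
  rw [h1] at h
  rcases h with h | h | h
  · omega
  · omega
  · exact T.not_ca (h ▸ one_dvd a)

theorem ne_one_a (T : T3 G a b c) {w : G} (h : cix w = a) : w ≠ 1 := T.ne_one (Or.inl h)

theorem ne_one_b (T : T3 G a b c) {w : G} (h : cix w = b) : w ≠ 1 := T.ne_one (Or.inr (Or.inl h))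

theorem ne_one_c (T : T3 G a b c) {w : G} (h : cix w = c) : w ≠ 1 := T.ne_one (Or.inr (Or.inr h))

theorem exists_primary_a (T : T3 G a b c) :
    ∃ (x : G) (r i : ℕ), r.Prime ∧ orderOf x = r ^ i ∧ cix x = a := by
  obtain ⟨w, hw⟩ := T.exA
  obtain ⟨j, r, i, hr, ho, hj⟩ := exists_primary_noncentral (g := w) (fun h => T.ne_one_a hw
    (by rwa [T.hZ, Subgroup.mem_bot] at h))
  have hj1 : w ^ j ≠ 1 := fun e => hj (by rw [e]; exact Subgroup.one_mem _)
  refine ⟨w ^ j, r, i, hr, ho, ?_⟩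
  have hd : cix (w ^ j) ∣ a := hw ▸ cix_pow_dvd w j
  rcases T.mem _ hj1 with h | h | h
  · exact h
  · exact absurd (h ▸ hd) T.not_ba
  · exact absurd (h ▸ hd) T.not_ca

theorem exists_primary_b (T : T3 G a b c) :
    ∃ (y : G) (r i : ℕ), r.Prime ∧ orderOf y = r ^ i ∧ cix y = b := by
  obtain ⟨w, hw⟩ := T.exB
  obtain ⟨j, r, i, hr, ho, hj⟩ := exists_primary_noncentral (g := w) (fun h => T.ne_one_b hw
    (by rwa [T.hZ, Subgroup.mem_bot] at h))
  have hj1 : w ^ j ≠ 1 := fun e => hj (by rw [e]; exact Subgroup.one_mem _)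
  refine ⟨w ^ j, r, i, hr, ho, ?_⟩
  have hd : cix (w ^ j) ∣ b := hw ▸ cix_pow_dvd w j
  rcases T.mem _ hj1 with h | h | h
  · exact absurd (h ▸ hd) T.not_ab
  · exact h
  · exact absurd (h ▸ hd) T.not_cb

/-- Commuting elements of coprime orders do not have class sizes `a` and `b`. -/
theorem not_commute (T : T3 G a b c) {x y : G} (hx : cix x = a) (hy : cix y = b)
    (hc : (orderOf x).Coprime (orderOf y)) : ¬ Commute x y := by
  intro h
  have he := cix_mul_eq h hc (by rw [hx, hy]; exact T.cop)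
  rw [hx, hy] at he
  have hne := mul_ne_one_of_coprime hc (T.ne_one_a hx)
  have := T.ha
  have := T.hb
  rcases T.mem _ hne with h1 | h1 | h1
  · exact T.not_ba (Dvd.intro_left a (he.symm.trans h1))
  · exact T.not_ab (Dvd.intro b (he.symm.trans h1))
  · exact T.ne_mul (h1.symm.trans he)

/-- An element of class size `c` and a commuting element of coprime order. -/
theorem minimal (T : T3 G a b c) {v u : G} (hv : cix v = c) (h : Commute v u)
    (hc : (orderOf v).Coprime (orderOf u)) : cen v ≤ cen u := by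
  have hd : c ∣ cix (v * u) := hv ▸ Subgroup.index_dvd_of_le (cen_mul_le h hc)
  have hcvu : cix (v * u) = c := by
    rcases T.mem _ (mul_ne_one_of_coprime hc (T.ne_one_c hv)) with h' | h' | h'
    · exact absurd (h' ▸ hd) T.not_ca
    · exact absurd (h' ▸ hd) T.not_cb
    · exact h'
  rw [← cen_eq_of_le (cen_mul_le h hc) (hcvu.trans hv.symm)]
  exact cen_mul_le' h hc

theorem minimal_eq (T : T3 G a b c) {v u : G} (hv : cix v = c) (hu : cix u = c) (h : Commute v u)
    (hc : (orderOf v).Coprime (orderOf u)) : cen v = cen u :=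
  cen_eq_of_le (T.minimal hv h hc) (hv.trans hu.symm)

theorem dvd_cases (T : T3 G a b c) {r : ℕ} (hr : r.Prime) (hra : r ∣ a) {z : G} (hz : z ≠ 1)
    (h : ¬ r ∣ cix z) : cix z = b := by
  rcases T.mem z hz with h' | h' | h'
  · exact absurd (h' ▸ hra) h
  · exact h'
  · exact absurd (h' ▸ hra.trans T.adc) h

theorem a_dvd_card (T : T3 G a b c) : a ∣ Nat.card G := by
  obtain ⟨x, hx⟩ := T.exA
  exact hx ▸ Subgroup.index_dvd_card _

theorem b_dvd_card (T : T3 G a b c) : b ∣ Nat.card G := by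
  obtain ⟨y, hy⟩ := T.exB
  exact hy ▸ Subgroup.index_dvd_card _

theorem center_top (T : T3 G a b c) {u : G} (h : ∀ g : G, Commute g u) : u = 1 := by
  have h1 : u ∈ Subgroup.center G := Subgroup.mem_center_iff.2 fun g => (h g).eq
  rwa [T.hZ, Subgroup.mem_bot] at h1

end T3

end Cfsg.Agent.Transfer.ClassThree
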