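import Cfsg.Agent.Lib.Transfer.ClassThree.AbelCC

/-!
Three class sizes with an abelian self-centralising subgroup: the Fitting subgroup is trivial.
-/

set_option autoImplicit false
set_option maxHeartbeats 1000000

open scoped Pointwise

universe u

namespace Cfsg.Agent.Transfer.ClassThree

open Cfsg Cfsg.Agent Cfsg.Agent.Transfer.ClassDisconnected

variable {G : Type u} [Group G] [Finite G]

namespace CC

variable {a b c : ℕ} {R : Subgroup G}

theorem pCore_not_dvd (H : CC G a b c R) {s : ℕ} [hs : Fact s.Prime] (h : pCore s G ≠ ⊥) : ¬ s ∣ a := by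
  intro hd
  obtain ⟨⟨w, hwR⟩, hwo⟩ := exists_prime_orderOf_dvd_card' (G := R) s (H.cardR.symm ▸ hd)
  rw [Subgroup.orderOf_mk] at hwo
  obtain ⟨P, hwP⟩ := exists_sylow_mem (u := w) (s := s) (i := 1) (by rw [hwo, pow_one])
  haveI : (pCore s G).Normal := Grp.pCore_isNormal
  exact h (H.eq_bot_of_le ((Grp.pCore_le_sylow P).trans
    (H.sylow_le P hwP hwR (ne_one_of_prime hs.out hwo))))

theorem mem_pCore_of_fitting {u : G} {s i : ℕ} [Fact s.Prime] (hu : u ∈ fittingSubgroup G)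
    (ho : orderOf u = s ^ i) : u ∈ pCore s G := by
  obtain ⟨P, hP⟩ := exists_sylow_mem ho
  haveI := Grp.fittingSubgroup_isNormal (G := G)
  exact Grp.le_pCore (Grp.sylow_inf_normal_normal P _ Grp.fittingSubgroup_isNilpotent)
    (P.isPGroup'.to_le inf_le_left) ⟨hP, hu⟩

theorem coprime_fitting (H : CC G a b c R) : (Nat.card (fittingSubgroup G)).Coprime a := by
  refine Nat.coprime_of_dvd fun s hs h1 h2 => ?_
  haveI := Fact.mk hs
  obtain ⟨⟨u, huF⟩, huo⟩ := exists_prime_orderOf_dvd_card' (G := fittingSubgroup G) s h1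
  rw [Subgroup.orderOf_mk] at huo
  refine H.pCore_not_dvd (s := s) (fun e => ne_one_of_prime hs huo ?_) h2
  have := mem_pCore_of_fitting (s := s) (i := 1) huF (by rw [huo, pow_one])
  rwa [e, Subgroup.mem_bot] at this

theorem fitting_inf (H : CC G a b c R) : fittingSubgroup G ⊓ R = ⊥ :=
  (Subgroup.eq_bot_iff_forall _).2 fun _ hw =>
    eq_one_of_mem_inf_coprime (H.cardR.symm ▸ H.coprime_fitting) hw.1 hw.2

theorem cent_le_fitting (H : CC G a b c R) {Z : Subgroup G} [hZn : Z.Normal] (hne : Z ≠ ⊥) :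
    Subgroup.centralizer (Z : Set G) ≤ fittingSubgroup G := by
  haveI : (Subgroup.centralizer (Z : Set G)).Normal := Subgroup.normal_centralizer
  refine Grp.le_fittingSubgroup inferInstance (H.nilpotent_of_inf_eq_bot ?_)
  by_contra h
  obtain ⟨w, hw, hw1⟩ := (Subgroup.bot_or_exists_ne_one _).resolve_left h
  refine hne (H.eq_bot_of_le fun v hv => ?_)
  rw [← H.cenR w hw.2 hw1]
  exact mem_cen.2 (Subgroup.mem_centralizer_iff.1 hw.1 v hv)

theorem isCyclic_R (H : CC G a b c R) {r : ℕ} [Fact r.Prime] (hr : pCore r G ≠ ⊥) : IsCyclic R := by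
  haveI : (pCore r G).Normal := Grp.pCore_isNormal
  refine Block.PrimeMul.isCyclic_of_fpf R (pCore r G) hr H.ne_bot H.comm fun w hw hw1 d hd h => ?_
  have hdR : d ∈ R := by
    rw [← H.cenR w hw hw1]
    exact mem_cen.2 h.symm
  have h1 : d ∈ pCore r G ⊓ R := ⟨hd, hdR⟩
  rwa [H.pCore_inf r, Subgroup.mem_bot] at h1

theorem isSolvable_normalizer (H : CC G a b c R) {r : ℕ} [Fact r.Prime] (hr : pCore r G ≠ ⊥) :
    Group.IsSolvable (Subgroup.normalizer (R : Set G)) := by
  haveI := H.isCyclic_R hr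
  set N := Subgroup.normalizer (R : Set G) with hN
  obtain ⟨⟨r₀, hr₀⟩, hgen⟩ := IsCyclic.exists_generator (α := R)
  have hr₀1 : r₀ ≠ 1 := by
    intro e
    refine H.ne_bot ((Subgroup.eq_bot_iff_forall _).2 fun w hw => ?_)
    obtain ⟨k, hk⟩ := Subgroup.mem_zpowers_iff.1 (hgen ⟨w, hw⟩)
    have := congrArg Subtype.val hk
    simp only [SubgroupClass.coe_zpow, e, one_zpow] at this
    exact this.symm
  haveI : (R.subgroupOf N).Normal := Subgroup.normal_subgroupOf_of_le_normalizer le_rfl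
  have hRs : Group.IsSolvable (R.subgroupOf N) := Group.isSolvable_of_comm fun u v =>
    Subtype.ext (Subtype.ext (H.comm _ (Subgroup.mem_subgroupOf.1 u.2) _ (Subgroup.mem_subgroupOf.1 v.2)))
  refine (Group.isSolvable_iff_subgroup_quotient (R.subgroupOf N)).mpr
    ⟨hRs, Group.isSolvable_of_comm fun p q => ?_⟩
  obtain ⟨n, rfl⟩ := QuotientGroup.mk_surjective p
  obtain ⟨m, rfl⟩ := QuotientGroup.mk_surjective q
  rw [← QuotientGroup.mk_mul, ← QuotientGroup.mk_mul, QuotientGroup.eq, Subgroup.mem_subgroupOf,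
    ← H.cenR r₀ hr₀ hr₀1, mem_cen]
  have hpow : ∀ n : N, ∃ i : ℤ, (n : G) * r₀ * (n : G)⁻¹ = r₀ ^ i := by
    intro n
    obtain ⟨i, hi⟩ := Subgroup.mem_zpowers_iff.1
      (hgen ⟨(n : G) * r₀ * (n : G)⁻¹, (Subgroup.mem_normalizer_iff.1 n.2 r₀).1 hr₀⟩)
    exact ⟨i, (congrArg Subtype.val hi).symm.trans rfl⟩
  have hconj : ∀ n : N, ∀ k : ℤ, (n : G) * r₀ ^ k * (n : G)⁻¹ = ((n : G) * r₀ * (n : G)⁻¹) ^ k :=
    fun n k => conj_zpow.symm
  obtain ⟨i, hi⟩ := hpow n
  obtain ⟨j, hj⟩ := hpow m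
  have key : ((n : G) * m) * r₀ * ((n : G) * m)⁻¹ = ((m : G) * n) * r₀ * ((m : G) * n)⁻¹ := by
    calc ((n : G) * m) * r₀ * ((n : G) * m)⁻¹ = (n : G) * ((m : G) * r₀ * (m : G)⁻¹) * (n : G)⁻¹ := by group
      _ = r₀ ^ (i * j) := by rw [hj, hconj, hi, zpow_mul]
      _ = (m : G) * ((n : G) * r₀ * (n : G)⁻¹) * (m : G)⁻¹ := by rw [hi, hconj, hj, ← zpow_mul, mul_comm]
      _ = ((m : G) * n) * r₀ * ((m : G) * n)⁻¹ := by group
  push_cast
  refine (show Commute r₀ _ from ?_).symm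
  show r₀ * (((n : G) * m)⁻¹ * ((m : G) * n)) = ((n : G) * m)⁻¹ * ((m : G) * n) * r₀
  calc r₀ * (((n : G) * m)⁻¹ * ((m : G) * n))
      = ((n : G) * m)⁻¹ * (((n : G) * m) * r₀ * ((n : G) * m)⁻¹) * ((m : G) * n) := by group
    _ = ((n : G) * m)⁻¹ * ((m : G) * n) * r₀ := by rw [key]; group

theorem no_solvable (H : CC G a b c R) {r : ℕ} [Fact r.Prime] (hr : pCore r G ≠ ⊥) {X : Subgroup G}
    [X.Normal] (hX : Group.IsSolvable X) (h : X ⊓ R ≠ ⊥) : False := by
  haveI := hX
  haveI := H.isSolvable_normalizer hr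
  exact H.t3.hns (isSolvable_of_cover X (Subgroup.normalizer (R : Set G)) (H.frattini h))

theorem exists_eps (H : CC G a b c R) :
    ∃ (ε : G) (p : ℕ), p.Prime ∧ orderOf ε = p ∧ ¬ p ∣ a ∧ ε ∈ Subgroup.normalizer (R : Set G) ∧
      ε ∉ R ∧ ε ∉ fittingSubgroup G := by
  set N := Subgroup.normalizer (R : Set G) with hN
  have hne : R.subgroupOf N ≠ ⊤ := fun e => by
    have hle : N ≤ R := Subgroup.subgroupOf_eq_top.1 e
    haveI := H.solvable_of_le _ ⊤ rfl inferInstance (inf_le_right.trans hle)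
    exact H.t3.hns (Group.isSolvable_of_surjective
      (f := (Subgroup.topEquiv (G := G)).toMonoidHom) (MulEquiv.surjective _))
  have hcard : Nat.card (R.subgroupOf N) = a := by
    rw [Nat.card_congr (Subgroup.subgroupOfEquivOfLe (Subgroup.le_normalizer (H := R))).toEquiv, H.cardR]
  have hN1 := (R.subgroupOf N).card_mul_index
  rw [hcard] at hN1
  have hidx : (R.subgroupOf N).index ∣ b := by
    have h1 : Nat.card N ∣ a * b := H.cardG ▸ N.card_subgroup_dvd_card
    rw [← hN1] at h1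
    exact Nat.dvd_of_mul_dvd_mul_left (by have := H.t3.ha; omega) h1
  obtain ⟨p, hp, hpd⟩ := Nat.exists_prime_and_dvd (mt Subgroup.index_eq_one.1 hne)
  haveI := Fact.mk hp
  have hpa : ¬ p ∣ a := fun h =>
    hp.ne_one (Nat.eq_one_of_dvd_coprimes H.t3.cop h (hpd.trans hidx))
  obtain ⟨⟨ε, hεN⟩, hεo⟩ := exists_prime_orderOf_dvd_card' (G := N) p (hN1 ▸ hpd.mul_left a)
  rw [Subgroup.orderOf_mk] at hεo
  have hεR : ε ∉ R := fun h => hpa (by
    rw [← hεo, ← H.cardR]
    exact Subgroup.orderOf_dvd_natCard _ h)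
  refine ⟨ε, p, hp, hεo, hpa, hεN, hεR, fun hF => hεR ?_⟩
  obtain ⟨w, hw, hw1⟩ := (Subgroup.bot_or_exists_ne_one R).resolve_left H.ne_bot
  haveI := Grp.fittingSubgroup_isNormal (G := G)
  have h1 : ε * w * ε⁻¹ * w⁻¹ ∈ fittingSubgroup G ⊓ R := by
    refine ⟨?_, R.mul_mem ((Subgroup.mem_normalizer_iff.1 hεN w).1 hw) (R.inv_mem hw)⟩
    rw [show ε * w * ε⁻¹ * w⁻¹ = ε * (w * ε⁻¹ * w⁻¹) by group]
    exact Subgroup.mul_mem _ hF (Subgroup.Normal.conj_mem inferInstance _ (Subgroup.inv_mem _ hF) w)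
  rw [H.fitting_inf, Subgroup.mem_bot] at h1
  rw [← H.cenR w hw hw1]
  exact mem_cen.2 (mul_inv_eq_iff_eq_mul.1 (mul_inv_eq_one.1 h1))

theorem mem_fitting_of_a (H : CC G a b c R) {r : ℕ} [Fact r.Prime] (hr : pCore r G ≠ ⊥) {x : G}
    (hx : cix x = a) : x ∈ fittingSubgroup G ∧ fittingSubgroup G ≤ cen x := by
  have hle : ∀ (s : ℕ) [Fact s.Prime], pCore s G ≤ cen x := by
    intro s hs
    by_cases h : pCore s G = ⊥
    · rw [h]; exact bot_le
    haveI : (pCore s G).Normal := Grp.pCore_isNormal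
    exact le_cen_of_normal Grp.pCore_isPGroup (hx.symm ▸ H.pCore_not_dvd h)
  refine ⟨?_, ?_⟩
  · haveI : (pCore r G).Normal := Grp.pCore_isNormal
    exact H.cent_le_fitting hr (Subgroup.mem_centralizer_iff.2 fun v hv => (mem_cen.1 (hle r hv)).eq)
  · rw [Grp.fittingSubgroup_eq_iSup_pCore]
    exact iSup_le fun p => by haveI := Fact.mk p.2; exact hle p

theorem cix_eq_c (H : CC G a b c R) {r : ℕ} [Fact r.Prime] (hr : pCore r G ≠ ⊥) {u : G} {s i : ℕ}
    (hs : s.Prime) (ho : orderOf u = s ^ i) (hsa : ¬ s ∣ a) (hu : u ∉ fittingSubgroup G) :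
    cix u = c := by
  have hu1 : u ≠ 1 := fun e => hu (e ▸ one_mem _)
  rcases H.t3.mem u hu1 with h | h | h
  · exact absurd (H.mem_fitting_of_a hr h).1 hu
  · exfalso
    refine hsa ?_
    rw [← H.card_b h]
    refine (dvd_trans ?_ (Subgroup.orderOf_dvd_natCard _ (self_mem_cen u)))
    rw [ho]
    exact dvd_pow_self s fun e => hu1 (orderOf_eq_one_iff.1 (by rw [ho, e, pow_zero]))
  · exact h

theorem exists_centre {r : ℕ} [Fact r.Prime] (hr : pCore r G ≠ ⊥) :
    ∃ Z : Subgroup G, Z.Normal ∧ Z ≤ pCore r G ∧ Z ≠ ⊥ ∧ (∀ u ∈ pCore r G, ∀ v ∈ Z, u * v = v * u) := by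
  haveI : (pCore r G).Normal := Grp.pCore_isNormal
  refine ⟨pCore r G ⊓ Subgroup.centralizer (pCore r G : Set G), Subgroup.normal_inf_normal _ _,
    inf_le_left, ?_, fun u hu v hv => Subgroup.mem_centralizer_iff.1 hv.2 u hu⟩
  haveI : Nontrivial (pCore r G) := (Subgroup.nontrivial_iff_ne_bot _).2 hr
  haveI := (Grp.pCore_isPGroup (p := r) (G := G)).center_nontrivial
  obtain ⟨z, hz⟩ := exists_ne (1 : Subgroup.center (pCore r G))
  refine fun e => hz (Subtype.ext (Subtype.ext ?_))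
  have h1 : ((z : pCore r G) : G) ∈ pCore r G ⊓ Subgroup.centralizer (pCore r G : Set G) :=
    ⟨z.1.2, Subgroup.mem_centralizer_iff.2 fun v hv =>
      congrArg Subtype.val (Subgroup.mem_center_iff.1 z.2 ⟨v, hv⟩)⟩
  rw [e, Subgroup.mem_bot] at h1
  exact h1

/-- Elements of different primes outside the Fitting subgroup do not commute. -/
theorem no_commute (H : CC G a b c R) {r : ℕ} [hr' : Fact r.Prime] (hr : pCore r G ≠ ⊥) {t u : G}
    {s i j : ℕ} (hs : s.Prime) (hsr : s ≠ r) (ht : orderOf t = r ^ i) (hu : orderOf u = s ^ j)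
    (hsa : ¬ s ∣ a) (htF : t ∉ fittingSubgroup G) (huF : u ∉ fittingSubgroup G) : ¬ Commute t u := by
  intro htu
  have htc := H.cix_eq_c hr hr'.out ht (H.pCore_not_dvd hr) htF
  have huc := H.cix_eq_c hr hs hu hsa huF
  have heq := H.t3.minimal_eq htc huc htu (ne_of_mem_prime hr'.out hs ht hu (Ne.symm hsr))
  obtain ⟨Z, hZn, hZO, hZne, hZc⟩ := exists_centre (G := G) hr
  haveI := hZn
  obtain ⟨P, htP⟩ := exists_sylow_mem ht
  have hZP : Z ≤ (P : Subgroup G) := hZO.trans (Grp.pCore_le_sylow P)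
  haveI := P.isPGroup'.isNilpotent
  obtain ⟨n, hn⟩ := (Subgroup.isNilpotent_iff_lowerCentralSeries (P : Subgroup G)).1 inferInstance
  have main : ∀ k, k ≤ n → ∀ v ∈ Z, v ∈ (P : Subgroup G).lowerCentralSeries (n - k) → Commute u v := by
    intro k
    induction k with
    | zero =>
      intro _ v _ hv
      rw [Nat.sub_zero, hn, Subgroup.mem_bot] at hv
      rw [hv]
      exact Commute.one_right u
    | succ k ih =>
      intro hk v hvZ hv
      set w₀ := t * v * t⁻¹ * v⁻¹ with hw₀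
      have hw₀Z : w₀ ∈ Z := Z.mul_mem (hZn.conj_mem v hvZ t) (Z.inv_mem hvZ)
      have hw₀l : w₀ ∈ (P : Subgroup G).lowerCentralSeries (n - k) := by
        have h1 := Subgroup.commutator_mem_commutator hv htP
        rw [← Subgroup.lowerCentralSeries_succ, show n - (k + 1) + 1 = n - k by omega] at h1
        have h2 := Subgroup.inv_mem _ h1
        rwa [commutatorElement_inv, commutatorElement_def] at h2
      have h0 : Commute u w₀ := ih (by omega) w₀ hw₀Z hw₀l
      set w := u * v * u⁻¹ * v⁻¹ with hw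
      have hwZ : w ∈ Z := Z.mul_mem (hZn.conj_mem v hvZ u) (Z.inv_mem hvZ)
      have htw : Commute w t := by
        refine (show Commute t w from mul_inv_eq_iff_eq_mul.1 ?_).symm
        have e1 : t * v * t⁻¹ = w₀ * v := by rw [hw₀]; group
        calc t * w * t⁻¹ = (t * u) * v * (u⁻¹ * t⁻¹) * (t * v⁻¹ * t⁻¹) := by rw [hw]; group
          _ = (u * t) * v * (t⁻¹ * u⁻¹) * (t * v⁻¹ * t⁻¹) := by
              rw [htu.eq, htu.inv_inv.eq]
          _ = u * (t * v * t⁻¹) * u⁻¹ * (t * v * t⁻¹)⁻¹ := by group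
          _ = (u * w₀ * u⁻¹) * w * w₀⁻¹ := by rw [e1, hw]; group
          _ = w₀ * w * w₀⁻¹ := by rw [h0.eq, mul_inv_cancel_right]
          _ = w := by rw [hZc w₀ (hZO hw₀Z) w hwZ, mul_inv_cancel_right]
      have hwu : Commute w u := by
        have h1 : w ∈ cen t := mem_cen.2 htw
        rw [heq] at h1
        exact mem_cen.1 h1
      have hc : u * v * u⁻¹ = v * w := by
        have e : u * v * u⁻¹ = w * v := by rw [hw]; group
        rw [e, hZc w (hZO hwZ) v hvZ]
      have hpow := conj_pow_formula hc hwu (orderOf u)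
      rw [pow_orderOf_eq_one, one_mul, inv_one, mul_one] at hpow
      have hw1 : w ^ orderOf u = 1 := mul_left_cancel (a := v) (by rw [← hpow, mul_one])
      obtain ⟨l, hl⟩ := exists_pow_of_mem (Grp.pCore_isPGroup (p := r) (G := G)) (hZO hwZ)
      have hw2 : w = 1 := orderOf_eq_one_iff.1 (Nat.eq_one_of_dvd_coprimes
        (k := orderOf w) (ne_of_mem_prime hr'.out hs hl hu (Ne.symm hsr)) dvd_rfl
        (orderOf_dvd_of_pow_eq_one hw1))
      exact mul_inv_eq_iff_eq_mul.1 (mul_inv_eq_one.1 hw2)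
  refine huF (H.cent_le_fitting hZne (Subgroup.mem_centralizer_iff.2 fun v hv => ?_))
  refine (main n le_rfl v hv ?_).symm.eq
  rw [Nat.sub_self]
  exact hZP hv

/-- The `r`-elements centralising an element of another prime outside the Fitting subgroup. -/
theorem card_pCore_inf (H : CC G a b c R) {r : ℕ} [hr' : Fact r.Prime] (hr : pCore r G ≠ ⊥) {u : G}
    {s j : ℕ} (hs : s.Prime) (hsr : s ≠ r) (hu : orderOf u = s ^ j) (hsa : ¬ s ∣ a)
    (huF : u ∉ fittingSubgroup G) :
    Nat.card (pCore r G ⊓ cen u : Subgroup G) = r ^ (Nat.card (cen u)).factorization r := by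
  obtain ⟨Q⟩ : Nonempty (Sylow r (cen u)) := inferInstance
  set Q' := (Q : Subgroup (cen u)).map (cen u).subtype with hQ'
  have hQle : Q' ≤ pCore r G ⊓ cen u := by
    intro v hv
    refine ⟨?_, Subgroup.map_subtype_le _ hv⟩
    obtain ⟨i, hi⟩ := exists_pow_of_mem (Q.isPGroup'.map (cen u).subtype) hv
    refine mem_pCore_of_fitting (i := i) ?_ hi
    by_contra hvF
    exact H.no_commute hr hs hsr hi hu hsa hvF huF (mem_cen.1 (Subgroup.map_subtype_le _ hv))
  have hQc : Nat.card Q' = r ^ (Nat.card (cen u)).factorization r := by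
    rw [hQ', Subgroup.card_map_of_injective (cen u).subtype_injective, Q.card_eq_multiplicity]
  obtain ⟨e, he⟩ := IsPGroup.iff_card.1
    ((Grp.pCore_isPGroup (p := r) (G := G)).to_le (inf_le_left : pCore r G ⊓ cen u ≤ _))
  refine le_antisymm ?_ (hQc ▸ Subgroup.card_le_of_le hQle)
  rw [he]
  exact Nat.pow_le_pow_right hr'.out.pos ((hr'.out.pow_dvd_iff_le_factorization Nat.card_pos.ne').1
    (he ▸ Subgroup.card_dvd_of_le inf_le_right))

theorem cen_card_eq (H : CC G a b c R) {u v : G} (hu : cix u = c) (hv : cix v = c) :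
    Nat.card (cen u) = Nat.card (cen v) := by
  have h1 := card_mul_cix u
  rw [hu, ← card_mul_cix v, hv] at h1
  refine Nat.eq_of_mul_eq_mul_right ?_ h1
  exact hv ▸ cix_pos v

/-- An element of `N(R)` outside `R` fixes at most one element of a class of size `a`. -/
theorem fixed_unique (H : CC G a b c R) {ε : G} (hεN : ε ∈ Subgroup.normalizer (R : Set G))
    (hεR : ε ∉ R) {v v' : G} (hva : cix v = a) (hv : Commute ε v) (hv' : Commute ε v') (h : IsConj v v') :
    v = v' := by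
  obtain ⟨g, rfl⟩ := isConj_iff.1 h
  obtain ⟨w, hw, d, hd, rfl⟩ := Grp.HallConv.exists_mul_of_coprime (H := cen v) (K := R)
    (by rw [show (cen v).index = a from hva, H.index_R]; exact H.t3.cop) g
  have e : w * d * v * (w * d)⁻¹ = w * v * w⁻¹ := by
    calc w * d * v * (w * d)⁻¹ = w * (d * v) * d⁻¹ * w⁻¹ := by group
      _ = w * v * w⁻¹ := by rw [(mem_cen.1 hd).eq]; group
  rw [e] at hv' ⊢
  have h1 : Commute (w⁻¹ * ε * w) v := by
    show w⁻¹ * ε * w * v = v * (w⁻¹ * ε * w)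
    calc w⁻¹ * ε * w * v = w⁻¹ * (ε * (w * v * w⁻¹)) * w := by group
      _ = w⁻¹ * ((w * v * w⁻¹) * ε) * w := by rw [hv'.eq]
      _ = v * (w⁻¹ * ε * w) := by group
  have hn : w⁻¹ * ε * w * ε⁻¹ = 1 := by
    refine H.eq_one_of_card (H.card_a hva).dvd ?_ (mem_cen.2 (h1.mul_left hv.inv_left))
    rw [show w⁻¹ * ε * w * ε⁻¹ = w⁻¹ * (ε * w * ε⁻¹) by group]
    exact R.mul_mem (R.inv_mem hw) ((Subgroup.mem_normalizer_iff.1 hεN w).1 hw)
  have hεw : Commute ε w := by
    show ε * w = w * ε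
    have := mul_inv_eq_one.1 hn
    calc ε * w = w * (w⁻¹ * ε * w) := by group
      _ = w * ε := by rw [this]
  have hw1 : w = 1 := by
    by_contra hw1
    exact hεR (H.cenR w hw hw1 ▸ mem_cen.2 hεw)
  rw [hw1]
  group

/-- A normal subgroup all of whose nontrivial elements have class size `a`. -/
theorem exists_injection (H : CC G a b c R) {A : Subgroup G} [hA : A.Normal]
    (hAa : ∀ v ∈ A, v ≠ 1 → cix v = a) {ε : G} (hεN : ε ∈ Subgroup.normalizer (R : Set G)) (hεR : ε ∉ R)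
    {t : G} {q i : ℕ} (hq : q.Prime) (ht : orderOf t = q ^ i) (hqa : ¬ q ∣ a) :
    ∃ f : (A ⊓ cen ε : Subgroup G) → (A ⊓ cen t : Subgroup G),
      Function.Injective f ∧ ∀ v : (A ⊓ cen ε : Subgroup G), IsConj (v : G) (f v : G) := by
  classical
  haveI := Fact.mk hq
  have key : ∀ v : (A ⊓ cen ε : Subgroup G), ∃ v' : (A ⊓ cen t : Subgroup G), IsConj (v : G) v' := by
    intro v
    by_cases hv1 : (v : G) = 1
    · exact ⟨1, by rw [hv1]; exact IsConj.refl _⟩
    obtain ⟨S, htS⟩ := exists_sylow_mem ht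
    obtain ⟨S', hS'⟩ := exists_sylow_le_centralizer (r := q) (u := (v : G))
      (by rw [show cix (v : G) = a from hAa _ v.2.1 hv1]; exact hqa)
    obtain ⟨g, hg⟩ := MulAction.exists_smul_eq G S' S
    rw [← hg] at htS
    obtain ⟨t', ht', hte⟩ := exists_of_mem_smul (show t ∈ g • S' from htS)
    refine ⟨⟨g * v * g⁻¹, hA.conj_mem _ v.2.1 g, mem_cen.2 ?_⟩, isConj_iff.2 ⟨g, rfl⟩⟩
    rw [← hte]
    exact (mem_cen.1 (conj_mem_cen.2 (hS' ht') : g * t' * g⁻¹ ∈ cen (g * (v : G) * g⁻¹))).symm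
  choose f hf using key
  refine ⟨f, fun v v' h => ?_, hf⟩
  have hc : IsConj (v : G) v' := (hf v).trans (h ▸ (hf v').symm)
  by_cases hv1 : (v : G) = 1
  · rw [hv1, isConj_one_right] at hc
    exact Subtype.ext (hv1.trans hc.symm)
  exact Subtype.ext (H.fixed_unique hεN hεR (hAa _ v.2.1 hv1)
    (mem_cen.1 v.2.2).symm (mem_cen.1 v'.2.2).symm hc)

theorem cix_a_or_c (H : CC G a b c R) {r : ℕ} [hr' : Fact r.Prime] {v : G} (hv : v ∈ pCore r G)
    (hv1 : v ≠ 1) : cix v = a ∨ cix v = c := by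
  obtain ⟨i, hi⟩ := exists_pow_of_mem (Grp.pCore_isPGroup (p := r) (G := G)) hv
  have hr : pCore r G ≠ ⊥ := fun e => hv1 (by rwa [e, Subgroup.mem_bot] at hv)
  rcases H.t3.mem v hv1 with h | h | h
  · exact Or.inl h
  · exfalso
    refine H.pCore_not_dvd hr ?_
    rw [← H.card_b h]
    refine dvd_trans ?_ (Subgroup.orderOf_dvd_natCard _ (self_mem_cen v))
    rw [hi]
    exact dvd_pow_self r fun e => hv1 (orderOf_eq_one_iff.1 (by rw [hi, e, pow_zero]))
  · exact Or.inr h

/-- Two primes outside the Fitting subgroup both dividing its order. -/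
theorem false_two (H : CC G a b c R) {q q' : ℕ} [hq : Fact q.Prime] [hq' : Fact q'.Prime] (hne : q ≠ q')
    (hOq : pCore q G ≠ ⊥) (hOq' : pCore q' G ≠ ⊥) {u u' : G} {i i' : ℕ} (hu : orderOf u = q ^ i)
    (hu' : orderOf u' = q' ^ i') (huF : u ∉ fittingSubgroup G) (hu'F : u' ∉ fittingSubgroup G) :
    False := by
  have hall : ∀ (r : ℕ) [Fact r.Prime], ∀ v ∈ pCore r G, v ≠ 1 → cix v = a := by
    intro r hrp v hv hv1
    rcases H.cix_a_or_c hv hv1 with h | hvc
    · exact h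
    exfalso
    obtain ⟨l, hl⟩ := exists_pow_of_mem (Grp.pCore_isPGroup (p := r) (G := G)) hv
    have aux : ∀ {s s' : ℕ} [Fact s.Prime] [Fact s'.Prime], s ≠ r → s' ≠ s → pCore s G ≠ ⊥ →
        pCore s' G ≠ ⊥ → ∀ {w : G} {j : ℕ}, orderOf w = s' ^ j → w ∉ fittingSubgroup G → False := by
      intro s s' hs hs' hsr hss hOs hOs' w j hw hwF
      haveI : (pCore s G).Normal := Grp.pCore_isNormal
      haveI : (pCore r G).Normal := Grp.pCore_isNormal
      have hsv : pCore s G ≤ cen v := by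
        intro y hy
        refine mem_cen.2 ?_
        obtain ⟨e₁, he₁⟩ := IsPGroup.iff_card.1 (Grp.pCore_isPGroup (p := s) (G := G))
        obtain ⟨e₂, he₂⟩ := IsPGroup.iff_card.1 (Grp.pCore_isPGroup (p := r) (G := G))
        exact (Subgroup.mem_centralizer_iff.1 (Grp.commute_of_coprime_normal (M := pCore s G)
          (N := pCore r G) (by rw [he₁, he₂]
                               exact Nat.Coprime.pow _ _ ((Nat.coprime_primes hs.out hrp.out).2 hsr))
          hy) v hv).symm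
      have hwc := H.cix_eq_c hOs' hs'.out hw (H.pCore_not_dvd hOs') hwF
      have hcard := H.card_pCore_inf hOs hs'.out hss hw (H.pCore_not_dvd hOs') hwF
      rw [H.cen_card_eq hwc hvc] at hcard
      obtain ⟨e, he⟩ := IsPGroup.iff_card.1 (Grp.pCore_isPGroup (p := s) (G := G))
      have hle : Nat.card (pCore s G) ≤ Nat.card (pCore s G ⊓ cen w : Subgroup G) := by
        rw [hcard, he]
        exact Nat.pow_le_pow_right hs.out.pos ((hs.out.pow_dvd_iff_le_factorization Nat.card_pos.ne').1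
          (he ▸ Subgroup.card_dvd_of_le hsv))
      have heq : pCore s G ⊓ cen w = pCore s G := Subgroup.eq_of_le_of_card_ge inf_le_left hle
      refine hwF (H.cent_le_fitting hOs (Subgroup.mem_centralizer_iff.2 fun y hy => ?_))
      exact (mem_cen.1 ((inf_eq_left.1 heq) hy)).eq
    by_cases hrq : r = q
    · exact aux (s := q') (s' := q) (by rw [hrq]; exact Ne.symm hne) hne hOq' hOq hu huF
    · exact aux (s := q) (s' := q') (Ne.symm hrq) (Ne.symm hne) hOq hOq' hu' hu'F
  obtain ⟨ε, p, hp, hεo, hpa, hεN, hεR, hεF⟩ := H.exists_eps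
  haveI := Fact.mk hp
  have aux2 : ∀ {s : ℕ} [Fact s.Prime], s ≠ p → pCore s G ≠ ⊥ → ∀ {t : G} {j : ℕ}, orderOf t = s ^ j →
      t ∉ fittingSubgroup G → False := by
    intro s hs hsp hOs t j ht htF
    haveI : (pCore s G).Normal := Grp.pCore_isNormal
    have hsa := H.pCore_not_dvd hOs
    obtain ⟨f, hf, -⟩ := H.exists_injection (A := pCore s G) (hall s) hεN hεR hs.out ht hsa
    have hle := Nat.card_le_card_of_injective f hf
    have hεc := H.cix_eq_c hOs hp (i := 1) (by rw [hεo, pow_one]) hpa hεF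
    have htc := H.cix_eq_c hOs hs.out ht hsa htF
    rw [H.card_pCore_inf hOs hp (Ne.symm hsp) (j := 1) (by rw [hεo, pow_one]) hpa hεF,
      H.cen_card_eq hεc htc] at hle
    -- the subgroup generated by `t` and its fixed points is larger
    set W := ((pCore s G).subgroupOf (cen t)) ⊔ Subgroup.zpowers (⟨t, self_mem_cen t⟩ : cen t) with hW
    have hWs : IsPGroup s W := (Grp.pCore_isPGroup.comap_subtype).to_sup_of_normal_left
      (isPGroup_zpowers (i := j) (by rw [Subgroup.orderOf_mk, ht]))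
    obtain ⟨e, he⟩ := IsPGroup.iff_card.1 hWs
    have hWle : Nat.card W ≤ s ^ (Nat.card (cen t)).factorization s := by
      rw [he]
      exact Nat.pow_le_pow_right hs.out.pos ((hs.out.pow_dvd_iff_le_factorization Nat.card_pos.ne').1
        (he ▸ W.card_subgroup_dvd_card))
    have hlt : Nat.card ((pCore s G).subgroupOf (cen t)) < Nat.card W := by
      refine lt_of_le_of_ne (Subgroup.card_le_of_le le_sup_left) fun e' => htF ?_
      have h1 : (⟨t, self_mem_cen t⟩ : cen t) ∈ (pCore s G).subgroupOf (cen t) := by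
        rw [Subgroup.eq_of_le_of_card_ge (le_sup_left : (pCore s G).subgroupOf (cen t) ≤ W) e'.ge]
        exact Subgroup.mem_sup_right (Subgroup.mem_zpowers _)
      exact Grp.pCore_le_fittingSubgroup (Subgroup.mem_subgroupOf.1 h1)
    have hcardsub : Nat.card ((pCore s G).subgroupOf (cen t)) = Nat.card (pCore s G ⊓ cen t : Subgroup G) := by
      rw [← Subgroup.inf_subgroupOf_right]
      exact Nat.card_congr (Subgroup.subgroupOfEquivOfLe inf_le_right).toEquiv
    omega
  by_cases hqp : q = p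
  · exact aux2 (s := q') (by rw [← hqp]; exact Ne.symm hne) hOq' hu' hu'F
  · exact aux2 (s := q) hqp hOq hu huF

/-- Only one prime outside the Fitting subgroup. -/
theorem false_one (H : CC G a b c R) {q : ℕ} [hq : Fact q.Prime] (hOq : pCore q G ≠ ⊥)
    (hone : ∀ (s : ℕ) (u : G) (i : ℕ), s.Prime → orderOf u = s ^ i → ¬ s ∣ a → u ∉ fittingSubgroup G → s = q) :
    False := by
  classical
  haveI hFn := Grp.fittingSubgroup_isNormal (G := G)
  set F := fittingSubgroup G with hF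
  set π := QuotientGroup.mk' F with hπ
  have hπsurj : Function.Surjective π := QuotientGroup.mk'_surjective F
  have hπ1 : ∀ g, π g = 1 ↔ g ∈ F := fun g => QuotientGroup.eq_one_iff g
  obtain ⟨w, hw, hw1⟩ := (Subgroup.bot_or_exists_ne_one R).resolve_left H.ne_bot
  have hFR : ∀ g, g ∈ F → g ∈ R → g = 1 := fun g h1 h2 => by
    have : g ∈ fittingSubgroup G ⊓ R := ⟨h1, h2⟩
    rwa [H.fitting_inf, Subgroup.mem_bot] at this
  -- centraliser of the image of `w`
  have hcen : cen (π w) = R.map π := by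
    refine le_antisymm (fun y hy => ?_) ?_
    · obtain ⟨g, rfl⟩ := hπsurj y
      have hg : g * w * g⁻¹ * w⁻¹ ∈ F := by
        rw [← hπ1, map_mul, map_mul, map_mul, map_inv, map_inv, (mem_cen.1 hy).eq]
        group
      let f : F → F := fun k => ⟨(k : G) * w * (k : G)⁻¹ * w⁻¹, by
        rw [show (k : G) * w * (k : G)⁻¹ * w⁻¹ = (k : G) * (w * (k : G)⁻¹ * w⁻¹) by group]
        exact F.mul_mem k.2 (hFn.conj_mem _ (F.inv_mem k.2) w)⟩
      have hinj : Function.Injective f := by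
        intro k k' h
        have h' : (k : G) * w * (k : G)⁻¹ = (k' : G) * w * (k' : G)⁻¹ :=
          mul_right_cancel (congrArg Subtype.val h : (k : G) * w * (k : G)⁻¹ * w⁻¹ = _)
        have h2 : (k' : G)⁻¹ * (k : G) ∈ cen w := mem_cen.2 (by
          show (k' : G)⁻¹ * (k : G) * w = w * ((k' : G)⁻¹ * (k : G))
          calc (k' : G)⁻¹ * (k : G) * w = (k' : G)⁻¹ * ((k : G) * w * (k : G)⁻¹) * (k : G) := by group
            _ = w * ((k' : G)⁻¹ * (k : G)) := by rw [h']; group)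
        rw [H.cenR w hw hw1] at h2
        exact Subtype.ext (inv_mul_eq_one.1 (hFR _ (F.mul_mem (F.inv_mem k'.2) k.2) h2)).symm
      obtain ⟨k, hk⟩ := Finite.surjective_of_injective hinj ⟨_, hg⟩
      have hk' : (k : G) * w * (k : G)⁻¹ = g * w * g⁻¹ :=
        mul_right_cancel (congrArg Subtype.val hk : (k : G) * w * (k : G)⁻¹ * w⁻¹ = _)
      have h2 : (k : G)⁻¹ * g ∈ R := by
        rw [← H.cenR w hw hw1]
        refine mem_cen.2 ?_
        show (k : G)⁻¹ * g * w = w * ((k : G)⁻¹ * g)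
        calc (k : G)⁻¹ * g * w = (k : G)⁻¹ * (g * w * g⁻¹) * g := by group
          _ = w * ((k : G)⁻¹ * g) := by rw [← hk']; group
      refine ⟨(k : G)⁻¹ * g, h2, ?_⟩
      rw [map_mul, map_inv, (hπ1 _).2 k.2, inv_one, one_mul]
    · rintro _ ⟨g, hg, rfl⟩
      exact mem_cen.2 ((show Commute g w from H.comm g hg w hw).map π)
  have hcardR : Nat.card (R.map π) = a := by
    rw [← H.cardR]
    refine (Nat.card_congr (Equiv.ofBijective (fun g : R => (⟨π g, g, g.2, rfl⟩ : R.map π)) ⟨?_, ?_⟩)).symm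
    · intro g g' h
      have h1 : π (g : G) = π g' := congrArg Subtype.val h
      refine Subtype.ext (inv_mul_eq_one.1 (hFR _ ?_ (R.mul_mem (R.inv_mem g.2) g'.2)))
      rw [← hπ1, map_mul, map_inv, h1, inv_mul_cancel]
    · rintro ⟨_, g, hg, rfl⟩
      exact ⟨⟨g, hg⟩, rfl⟩
  have hFb : Nat.card F ∣ b :=
    H.coprime_fitting.dvd_of_dvd_mul_left (H.cardG ▸ F.card_subgroup_dvd_card)
  obtain ⟨k, hk⟩ := hFb
  have hidx : cix (π w) = k := by
    have h1 := card_mul_cix (π w)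
    rw [hcen, hcardR] at h1
    have h2 := F.card_mul_index
    rw [Subgroup.index_eq_card, ← h1, H.cardG, hk] at h2
    have hf : 0 < Nat.card F := Nat.card_pos
    have : 0 < a := by have := H.t3.ha; omega
    refine Nat.eq_of_mul_eq_mul_left (Nat.mul_pos hf this) ?_
    rw [mul_assoc, h2]
    ring
  have hpow : k = q ^ k.primeFactorsList.length := by
    refine Nat.eq_prime_pow_of_unique_prime_dvd (fun e => (hidx.trans e ▸ cix_pos (π w)).false) ?_
    intro d hd hdk
    haveI := Fact.mk hd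
    obtain ⟨y, hy⟩ := exists_prime_orderOf_dvd_card' (G := G ⧸ F) d
      ((hdk.trans (hidx ▸ Subgroup.index_dvd_card _)))
    obtain ⟨g, rfl⟩ := hπsurj y
    obtain ⟨i, m, hm, hgo⟩ := Nat.exists_eq_pow_mul_and_not_dvd (orderOf_pos g).ne' d hd.ne_one
    have hm0 : m ≠ 0 := fun e => hm (e ▸ dvd_zero d)
    have ho : orderOf (g ^ m) = d ^ i := by
      rw [orderOf_pow_of_dvd hm0 ⟨d ^ i, by rw [hgo, mul_comm]⟩, hgo,
        Nat.mul_div_cancel _ (Nat.pos_of_ne_zero hm0)]
    refine hone d (g ^ m) i hd ho ?_ fun h => hm ?_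
    · exact fun hda => hd.ne_one (Nat.eq_one_of_dvd_coprimes H.t3.cop hda (hdk.trans (hk ▸ dvd_mul_left k _)))
    · rw [← hy]
      exact orderOf_dvd_of_pow_eq_one (by rw [← map_pow, hπ1]; exact h)
  have hcomapSol : ∀ Y : Subgroup (G ⧸ F), Group.IsNilpotent Y → Group.IsSolvable (Y.comap π) := by
    intro Y hY
    haveI : Group.IsSolvable Y := @IsNilpotent.to_isSolvable _ _ hY
    haveI : Group.IsSolvable F := @IsNilpotent.to_isSolvable _ _ Grp.fittingSubgroup_isNilpotent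
    have hle : F ≤ Y.comap π := fun g hg => by rw [Subgroup.mem_comap, (hπ1 g).2 hg]; exact one_mem _
    refine Group.isSolvable_of_ker_le_range (Subgroup.inclusion hle) (π.subgroupComap Y) fun g hg => ?_
    exact ⟨⟨(g : G), (hπ1 _).1 (congrArg Subtype.val (MonoidHom.mem_ker.1 hg))⟩, rfl⟩
  have hcore : pCore q (G ⧸ F) = ⊥ := by
    haveI : (pCore q (G ⧸ F)).Normal := Grp.pCore_isNormal
    set Y := (pCore q (G ⧸ F)).comap π with hY
    have hYR : Y ⊓ R = ⊥ := by
      by_contra h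
      exact H.no_solvable hOq (hcomapSol _ (Grp.pCore_isPGroup (p := q)).isNilpotent) h
    have hYF : Y ≤ F := Grp.le_fittingSubgroup inferInstance (H.nilpotent_of_inf_eq_bot hYR)
    refine (Subgroup.eq_bot_iff_forall _).2 fun y hy => ?_
    obtain ⟨g, rfl⟩ := hπsurj y
    exact (hπ1 g).2 (hYF hy)
  have hmem := Kazarin.mem_fitting hcore (x := π w) (show (cen (π w)).index = _ from hidx.trans hpow)
  haveI := Grp.fittingSubgroup_isNormal (G := G ⧸ F)
  refine H.no_solvable hOq (hcomapSol _ Grp.fittingSubgroup_isNilpotent)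
    fun e => hw1 ?_
  have : w ∈ (fittingSubgroup (G ⧸ F)).comap π ⊓ R := ⟨hmem, hw⟩
  rw [e, Subgroup.mem_bot] at this
  exact this

/-- No prime outside the Fitting subgroup divides its order. -/
theorem false_disjoint (H : CC G a b c R) {r : ℕ} [hr' : Fact r.Prime] (hr : pCore r G ≠ ⊥)
    (hnone : ∀ (s : ℕ) (u : G) (i : ℕ), s.Prime → orderOf u = s ^ i → ¬ s ∣ a → u ∉ fittingSubgroup G →
      pCore s G = ⊥) : False := by
  classical
  have T := H.t3
  set F := fittingSubgroup G with hF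
  haveI hFn : F.Normal := Grp.fittingSubgroup_isNormal
  obtain ⟨ε, p, hp, hεo, hpa, hεN, hεR, hεF⟩ := H.exists_eps
  haveI := Fact.mk hp
  have hεo' : orderOf ε = p ^ 1 := by rw [hεo, pow_one]
  have hOp : pCore p G = ⊥ := hnone p ε 1 hp hεo' hpa hεF
  have hnotF : ∀ {s : ℕ} [Fact s.Prime], pCore s G = ⊥ → ∀ {u : G}, orderOf u = s → u ∉ F := by
    intro s hs hOs u hu huF
    have h1 := mem_pCore_of_fitting (s := s) (i := 1) huF (by rw [hu, pow_one])
    rw [hOs, Subgroup.mem_bot] at h1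
    exact ne_one_of_prime hs.out hu h1
  haveI hOn : (pCore r G).Normal := Grp.pCore_isNormal
  set A := pCore r G with hA
  have hall : ∀ v ∈ A, v ≠ 1 → cix v = a := by
    intro v hv hv1
    rcases H.cix_a_or_c hv hv1 with h | hvc
    · exact h
    exfalso
    obtain ⟨P⟩ : Nonempty (Sylow p G) := inferInstance
    obtain ⟨z, -, hz1, hzo, -, hznd⟩ := exists_sylow_center (hεo ▸ orderOf_dvd_natCard ε) P
    have hzc := H.cix_eq_c hr hp (i := 1) (by rw [hzo, pow_one]) hpa (hnotF hOp hzo)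
    rw [hzc] at hznd
    have hd : p ∣ Nat.card (cen v) := by
      have h1 := card_mul_cix v
      have h2 : p ∣ Nat.card G := hεo ▸ orderOf_dvd_natCard ε
      rw [← h1, hvc] at h2
      exact ((hp.dvd_mul).1 h2).resolve_right hznd
    obtain ⟨⟨u, huv⟩, huo⟩ := exists_prime_orderOf_dvd_card' (G := cen v) p hd
    rw [Subgroup.orderOf_mk] at huo
    have huF := hnotF hOp huo
    obtain ⟨l, hl⟩ := exists_pow_of_mem (Grp.pCore_isPGroup (p := r) (G := G)) hv
    have hpr : p ≠ r := fun e => by subst e; exact hr hOp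
    have heq := T.minimal_eq hvc (H.cix_eq_c hr hp (i := 1) (by rw [huo, pow_one]) hpa huF)
      (mem_cen.1 huv).symm (ne_of_mem_prime hr'.out hp hl (j := 1) (by rw [huo, pow_one]) (Ne.symm hpr))
    obtain ⟨Z, hZn, -, hZne, hZc⟩ := exists_centre (G := G) hr
    haveI := hZn
    refine huF (H.cent_le_fitting hZne (Subgroup.mem_centralizer_iff.2 fun y hy => ?_))
    have h1 : y ∈ cen v := mem_cen.2 (hZc v hv y hy).symm
    rw [heq] at h1
    exact (mem_cen.1 h1).eq
  -- fixed points of elements of prime order in classes of `A`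
  have huniq : ∀ {u : G} {s : ℕ} [Fact s.Prime], orderOf u = s → u ∉ F → ¬ s ∣ a →
      ∀ v ∈ A, ∀ v' ∈ A, Commute u v → Commute u v' → IsConj v v' → v = v' := by
    intro u s hs huo huF hsa v hv v' hv' hvu hvu' hconj
    by_cases hv1 : v = 1
    · rw [hv1, isConj_one_right] at hconj
      exact hv1.trans hconj.symm
    have hOs : pCore s G = ⊥ := hnone s u 1 hs.out (by rw [huo, pow_one]) hsa huF
    have hsr : s ≠ r := fun e => by subst e; exact hr hOs
    have hpr : p ≠ r := fun e => by subst e; exact hr hOp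
    have huo' : orderOf u = s ^ 1 := by rw [huo, pow_one]
    obtain ⟨f, hf, hfc⟩ := H.exists_injection (A := A) hall hεN hεR hs.out huo' hsa
    have hc : Nat.card (A ⊓ cen ε : Subgroup G) = Nat.card (A ⊓ cen u : Subgroup G) := by
      rw [H.card_pCore_inf hr hp hpr hεo' hpa hεF, H.card_pCore_inf hr hs.out hsr huo' hsa huF,
        H.cen_card_eq (H.cix_eq_c hr hp hεo' hpa hεF) (H.cix_eq_c hr hs.out huo' hsa huF)]
    have hbij : Function.Bijective f := (Nat.bijective_iff_injective_and_card f).2 ⟨hf, hc⟩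
    obtain ⟨y, hy⟩ := hbij.2 ⟨v, hv, mem_cen.2 hvu.symm⟩
    obtain ⟨y', hy'⟩ := hbij.2 ⟨v', hv', mem_cen.2 hvu'.symm⟩
    have hyv : IsConj (y : G) v := by
      have := hfc y
      rwa [hy] at this
    have hyv' : IsConj (y' : G) v' := by
      have := hfc y'
      rwa [hy'] at this
    have hya : cix (y : G) = a := by
      refine hall _ y.2.1 fun e => hv1 ?_
      rw [e, isConj_one_right] at hyv
      exact hyv
    have he : (y : G) = y' := H.fixed_unique hεN hεR hya (mem_cen.1 y.2.2).symm (mem_cen.1 y'.2.2).symm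
      (hyv.trans (hconj.trans hyv'.symm))
    have : (⟨v, hv, mem_cen.2 hvu.symm⟩ : (A ⊓ cen u : Subgroup G)) = ⟨v', hv', mem_cen.2 hvu'.symm⟩ := by
      rw [← hy, ← hy', Subtype.ext he]
    exact congrArg Subtype.val this
  obtain ⟨v₀, hv₀, hv₀1⟩ := (Subgroup.bot_or_exists_ne_one A).resolve_left hr
  have hva : ∀ v : cl v₀, (v : G) ∈ A ∧ cix (v : G) = a := by
    intro v
    obtain ⟨g, hg⟩ := isConj_iff.1 (v.2 : IsConj v₀ v)
    rw [← hg]
    exact ⟨hOn.conj_mem _ hv₀ g, (cix_conj g v₀).trans (hall _ hv₀ hv₀1)⟩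
  have hJ : ∀ v v' : cl v₀, (v : G) ≠ v' → ∀ g, g ∈ cen (v : G) → g ∈ cen (v' : G) → g ∈ F := by
    intro v v' hne g hg hg'
    refine mem_of_primary F fun j s i hs hji => ?_
    by_contra hgF
    haveI := Fact.mk hs
    have hi0 : i ≠ 0 := fun e => hgF (by
      rw [e, pow_zero] at hji
      rw [orderOf_eq_one_iff.1 hji]; exact one_mem _)
    set u := g ^ j with hu
    have hsa : ¬ s ∣ a := by
      intro hd
      have h1 := Subgroup.orderOf_dvd_natCard _ (Subgroup.pow_mem _ hg j)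
      rw [H.card_a (hva v).2, hji] at h1
      exact hs.ne_one (Nat.eq_one_of_dvd_coprimes T.cop hd ((dvd_pow_self s hi0).trans h1))
    have hOs := hnone s u i hs hji hsa hgF
    set u' := u ^ (orderOf u / s)
    have hu'o : orderOf u' = s := orderOf_pow_orderOf_div (orderOf_pos u).ne' (hji ▸ dvd_pow_self s hi0)
    refine hne (huniq hu'o (hnotF hOs hu'o) hsa v (hva v).1 v' (hva v').1
      (((mem_cen.1 hg).pow_left j).pow_left _) (((mem_cen.1 hg').pow_left j).pow_left _) ?_)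
    exact (v.2 : IsConj v₀ v).symm.trans v'.2
  have hFle : ∀ v : cl v₀, F ≤ cen (v : G) := fun v => (H.mem_fitting_of_a hr (hva v).2).2
  set f := Nat.card F with hf
  -- the elements fixing a point
  let S : Set G := {g | g ∉ F ∧ ∃ v : cl v₀, g ∈ cen (v : G)}
  have hS : S.ncard = a * (b - f) := by
    haveI : Fintype (cl v₀) := Fintype.ofFinite _
    let e : ((v : cl v₀) × {g : G // g ∈ cen (v : G) ∧ g ∉ F}) → S :=
      fun y => ⟨y.2.1, y.2.2.2, y.1, y.2.2.1⟩
    have hbij : Function.Bijective e := by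
      refine ⟨?_, fun g => ⟨⟨g.2.2.choose, g.1, g.2.2.choose_spec, g.2.1⟩, rfl⟩⟩
      rintro ⟨v, g, hg1, hg2⟩ ⟨v', g', hg'1, hg'2⟩ h
      have h' : g = g' := congrArg Subtype.val h
      subst h'
      have : v = v' := by
        by_contra hne
        exact hg2 (hJ v v' (fun e' => hne (Subtype.ext e')) g hg1 hg'1)
      subst this
      rfl
    rw [← Nat.card_coe_set_eq, ← Nat.card_eq_of_bijective e hbij, Nat.card_sigma,
      Finset.sum_congr rfl (fun (v : cl v₀) _ => show Nat.card {g : G // g ∈ cen (v : G) ∧ g ∉ F} = b - f from ?_),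
      Finset.sum_const, Finset.card_univ, smul_eq_mul, ← Nat.card_eq_fintype_card, Nat.card_coe_set_eq,
      ncard_cl, show cix v₀ = a from hall _ hv₀ hv₀1]
    rw [show Nat.card {g : G // g ∈ cen (v : G) ∧ g ∉ F} = ((cen (v : G) : Set G) \ (F : Set G)).ncard from
      Nat.card_coe_set_eq _, Set.ncard_diff (hFle v) (Set.toFinite _), ← Nat.card_coe_set_eq,
      ← Nat.card_coe_set_eq]
    show Nat.card (cen (v : G)) - Nat.card F = b - f
    rw [H.card_a (hva v).2]
  let Rs : Set G := (R : Set G) \ {1}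
  let Tset : Set G := (fun y : G × G => y.1 * y.2) '' (Rs ×ˢ (F : Set G))
  have hT : Tset.ncard = (a - 1) * f := by
    rw [Set.ncard_image_of_injOn, Set.ncard_prod, Set.ncard_diff_singleton_of_mem R.one_mem,
      ← Nat.card_coe_set_eq, ← Nat.card_coe_set_eq]
    · show (Nat.card R - 1) * Nat.card F = _
      rw [H.cardR]
    · rintro ⟨w, k⟩ ⟨hw, hk⟩ ⟨w', k'⟩ ⟨hw', hk'⟩ h
      have h' : w * k = w' * k' := h
      have e : w'⁻¹ * w = k' * k⁻¹ := by
        calc w'⁻¹ * w = w'⁻¹ * (w * k) * k⁻¹ := by group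
          _ = k' * k⁻¹ := by rw [h']; group
      have h1 : w'⁻¹ * w ∈ fittingSubgroup G ⊓ R :=
        ⟨e ▸ F.mul_mem hk' (F.inv_mem hk), R.mul_mem (R.inv_mem hw'.1) hw.1⟩
      rw [H.fitting_inf, Subgroup.mem_bot] at h1
      rw [h1, eq_comm, mul_inv_eq_one] at e
      exact Prod.ext (inv_mul_eq_one.1 h1).symm e.symm
  have hRout : ∀ w ∈ R, w ≠ 1 → ∀ g : G, g * w * g⁻¹ ∉ F ∧
      ∀ v : cl v₀, g * w * g⁻¹ ∉ cen (v : G) := by
    intro w hw hw1 g
    refine ⟨fun h => hw1 ?_, fun v h => hw1 ?_⟩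
    · have h1 := hFn.conj_mem _ h g⁻¹
      rw [show g⁻¹ * (g * w * g⁻¹) * (g⁻¹)⁻¹ = w by group] at h1
      have h2 : w ∈ fittingSubgroup G ⊓ R := ⟨h1, hw⟩
      rwa [H.fitting_inf, Subgroup.mem_bot] at h2
    · have h1 : w ∈ cen (g⁻¹ * (v : G) * g) := by
        rw [show g⁻¹ * (v : G) * g = g⁻¹ * (v : G) * (g⁻¹)⁻¹ by group]
        have h2 := (conj_mem_cen (g := g⁻¹)).2 h
        rwa [show g⁻¹ * (g * w * g⁻¹) * (g⁻¹)⁻¹ = w by group] at h2
      refine H.eq_one_of_card (X := cen (g⁻¹ * (v : G) * g)) (H.card_a ?_).dvd hw h1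
      rw [show g⁻¹ * (v : G) * g = g⁻¹ * (v : G) * (g⁻¹)⁻¹ by group, cix_conj]
      exact (hva v).2
  have hTsub : Tset ⊆ (S ∪ (F : Set G))ᶜ := by
    rintro _ ⟨⟨w, k⟩, ⟨hw, hk⟩, rfl⟩
    obtain ⟨h1, h2⟩ := hRout w hw.1 hw.2 1
    simp only [one_mul, inv_one, mul_one] at h1 h2
    rintro (⟨-, v, hv⟩ | hF')
    · exact h2 v (by
        have := Subgroup.mul_mem _ hv (Subgroup.inv_mem _ (hFle v hk))
        rwa [mul_inv_cancel_right] at this)
    · refine h1 ?_
      have := F.mul_mem hF' (F.inv_mem hk)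
      rwa [mul_inv_cancel_right] at this
  have heq : Tset = (S ∪ (F : Set G))ᶜ := by
    refine Set.eq_of_subset_of_ncard_le hTsub ?_ (Set.toFinite _)
    rw [Set.ncard_compl, Set.ncard_union_eq (Set.disjoint_left.2 fun g hg => hg.1) (Set.toFinite _)
      (Set.toFinite _), hS, hT, H.cardG, ← Nat.card_coe_set_eq]
    show a * b - (a * (b - f) + f) ≤ (a - 1) * f
    have hfb : f ≤ b := by
      obtain ⟨v⟩ : Nonempty (cl v₀) := ⟨⟨v₀, IsConj.refl v₀⟩⟩
      rw [← H.card_a (hva v).2]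
      exact Subgroup.card_le_of_le (hFle v)
    have h1 : a * (b - f) + a * f = a * b := by rw [← Nat.mul_add, Nat.sub_add_cancel hfb]
    have h2 : (a - 1) * f + f = a * f := by
      rw [← Nat.succ_mul]; congr 1; have := T.ha; omega
    omega
  set X := R ⊔ F with hX
  have hXmul : (X : Set G) = (R : Set G) * (F : Set G) := by rw [hX, Subgroup.mul_normal]
  have hconj : ∀ w ∈ R, ∀ g : G, g * w * g⁻¹ ∈ X := by
    intro w hw g
    by_cases hw1 : w = 1
    · rw [hw1, mul_one, mul_inv_cancel]; exact one_mem _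
    obtain ⟨h1, h2⟩ := hRout w hw hw1 g
    have hmem : g * w * g⁻¹ ∈ Tset := by
      rw [heq]
      rintro (⟨-, v, hv⟩ | hF')
      · exact h2 v hv
      · exact h1 hF'
    obtain ⟨⟨w', k⟩, ⟨hw', hk⟩, he⟩ := hmem
    rw [← he]
    exact mul_mem (Subgroup.mem_sup_left hw'.1) (Subgroup.mem_sup_right hk)
  haveI hXn : X.Normal := ⟨fun y hy g => by
    rw [← SetLike.mem_coe, hXmul] at hy
    obtain ⟨w, hw, k, hk, rfl⟩ := hy
    rw [show g * (w * k) * g⁻¹ = g * w * g⁻¹ * (g * k * g⁻¹) by group]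
    exact mul_mem (hconj w hw g) (Subgroup.mem_sup_right (hFn.conj_mem k hk g))⟩
  refine H.no_solvable hr (X := X) ?_ ?_
  · haveI : Group.IsSolvable F := @IsNilpotent.to_isSolvable _ _ Grp.fittingSubgroup_isNilpotent
    haveI : Group.IsSolvable (F.subgroupOf X) := Group.isSolvable_of_isSolvable_injective
      (f := (Subgroup.subgroupOfEquivOfLe (le_sup_right : F ≤ X)).toMonoidHom) (MulEquiv.injective _)
    haveI : Group.IsSolvable (R.subgroupOf X) := Group.isSolvable_of_comm fun u v => Subtype.ext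
      (Subtype.ext (H.comm _ (Subgroup.mem_subgroupOf.1 u.2) _ (Subgroup.mem_subgroupOf.1 v.2)))
    refine isSolvable_of_cover (F.subgroupOf X) (R.subgroupOf X) fun g => ?_
    have hg : (g : G)⁻¹ ∈ (X : Set G) := X.inv_mem g.2
    rw [hXmul] at hg
    obtain ⟨w, hw, k, hk, he⟩ := hg
    refine ⟨⟨k, Subgroup.mem_sup_right hk⟩, Subgroup.mem_subgroupOf.2 hk, Subgroup.mem_subgroupOf.2 ?_⟩
    have hkg : k * (g : G) = w⁻¹ := by
      have he' : w * k = (g : G)⁻¹ := he
      rw [← inv_inv (g : G), ← he']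
      group
    show k * (g : G) ∈ R
    rw [hkg]
    exact R.inv_mem hw
  · intro e
    obtain ⟨w, hw, hw1⟩ := (Subgroup.bot_or_exists_ne_one R).resolve_left H.ne_bot
    have : w ∈ X ⊓ R := ⟨Subgroup.mem_sup_left hw, hw⟩
    rw [e, Subgroup.mem_bot] at this
    exact hw1 this

theorem fitting_eq_bot (H : CC G a b c R) : fittingSubgroup G = ⊥ := by
  classical
  by_contra hF
  obtain ⟨r, hr, hrne⟩ : ∃ r : ℕ, r.Prime ∧ pCore r G ≠ ⊥ := by
    by_contra hcon
    push Not at hcon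
    refine hF ?_
    rw [Grp.fittingSubgroup_eq_iSup_pCore]
    exact iSup_eq_bot.2 fun p : Nat.Primes => hcon (p : ℕ) p.2
  haveI := Fact.mk hr
  by_cases hii : ∃ (q : ℕ) (u : G) (i : ℕ), q.Prime ∧ orderOf u = q ^ i ∧ ¬ q ∣ a ∧
      u ∉ fittingSubgroup G ∧ pCore q G ≠ ⊥
  swap
  · push Not at hii
    exact H.false_disjoint hrne fun s u i hs hu hsa huF => hii s u i hs hu hsa huF
  obtain ⟨q, u, i, hq, hu, hqa, huF, hOq⟩ := hii
  haveI := Fact.mk hq
  refine H.false_one hOq fun s v j hs hv hsa hvF => ?_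
  by_contra hsq
  haveI := Fact.mk hs
  by_cases hOs : pCore s G = ⊥
  swap
  · exact H.false_two (Ne.symm hsq) hOq hOs hu hv huF hvF
  have hj : j ≠ 0 := fun e => hvF (by
    rw [e, pow_zero] at hv
    rw [orderOf_eq_one_iff.1 hv]; exact one_mem _)
  have hsd : s ∣ Nat.card G := (hv ▸ dvd_pow_self s hj : s ∣ orderOf v).trans (orderOf_dvd_natCard v)
  obtain ⟨P⟩ : Nonempty (Sylow s G) := inferInstance
  obtain ⟨z, -, hz1, hzo, -, hznd⟩ := exists_sylow_center hsd P
  have hzF : z ∉ fittingSubgroup G := fun h => hz1 (by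
    have := mem_pCore_of_fitting (s := s) (i := 1) h (by rw [hzo, pow_one])
    rwa [hOs, Subgroup.mem_bot] at this)
  have hzc := H.cix_eq_c hOq hs (i := 1) (by rw [hzo, pow_one]) hsa hzF
  rw [hzc] at hznd
  have huc := H.cix_eq_c hOq hq hu hqa huF
  have hd : s ∣ Nat.card (cen u) := by
    have h1 := card_mul_cix u
    rw [huc] at h1
    exact ((hs.dvd_mul).1 (h1.symm ▸ hsd)).resolve_right hznd
  obtain ⟨⟨w, hwu⟩, hwo⟩ := exists_prime_orderOf_dvd_card' (G := cen u) s hd
  rw [Subgroup.orderOf_mk] at hwo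
  refine H.no_commute hOq hs hsq hu (j := 1) (by rw [hwo, pow_one]) hsa huF (fun h => ?_)
    (mem_cen.1 hwu).symm
  have := mem_pCore_of_fitting (s := s) (i := 1) h (by rw [hwo, pow_one])
  rw [hOs, Subgroup.mem_bot] at this
  exact ne_one_of_prime hs hwo this

end CC

end Cfsg.Agent.Transfer.ClassThree
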