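import Cfsg.Agent.Lib.Char.FrobTIAbelian
import Cfsg.Agent.Lib.Char.Exceptional
import Cfsg.Agent.Lib.Char.Kernel

/-!
A factorisation `G = C(x) R` with `R` an abelian strongly self-centralising subgroup of order prime to that
of `C(x)` and contained in every nontrivial normal subgroup: then `x` is the only one of its conjugates in
its centraliser.
-/

set_option autoImplicit false
set_option maxHeartbeats 1000000

open scoped ComplexConjugate

universe u

namespace Cfsg.Agent.Transfer.ClassThree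

open Cfsg Cfsg.Agent Cfsg.Agent.Char

variable {G : Type u} [Group G] [Fintype G]

/-- A faithful irreducible character of degree prime to the class size of a non-central element vanishes. -/
theorem char_eq_zero_of_faithful {ψ : IrrCharacter G} (hf : ∀ g : G, (ψ : G → ℂ) g = (ψ : G → ℂ) 1 → g = 1)
    {x : G} (hx : x ∉ Subgroup.center G) {d : ℕ} (hd : (ψ : G → ℂ) 1 = d)
    (hco : d.Coprime (Subgroup.centralizer ({x} : Set G)).index) : (ψ : G → ℂ) x = 0 := by
  obtain ⟨n, ρ, hρ, he⟩ := ψ.2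
  haveI := hρ
  have hn : Module.finrank ℂ (Fin n → ℂ) = d := by
    apply Nat.cast_injective (R := ℂ)
    rw [← Representation.char_one ρ, he, hd]
  rcases character_eq_zero_or_norm_eq ρ x (by rwa [hn]) with h | h
  · rw [← he]; exact h
  exfalso
  obtain ⟨ω, hω⟩ := (norm_character_eq_iff ρ x).1 h
  refine hx (Subgroup.mem_center_iff.2 fun g => ?_)
  have hb : ∀ g : G, ρ g = 1 → g = 1 := fun g hg => hf g (by
    rw [← he, Representation.character, Representation.character, hg, map_one ρ])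
  have h1 : ρ ((x * g)⁻¹ * (g * x)) = 1 := by
    have h2 : ρ (g * x) = ρ (x * g) := by
      rw [map_mul, map_mul, hω]
      exact LinearMap.ext fun v => by simp
    rw [map_mul, h2, ← map_mul, inv_mul_cancel, map_one]
  exact (inv_mul_eq_one.1 (hb _ h1)).symm

/-- `x` is isolated in its centraliser. -/
theorem isolated (R : Subgroup G) (hmin : ∀ L : Subgroup G, L.Normal → L = ⊥ ∨ R ≤ L) {x : G}
    (hx : x ∉ Subgroup.center G)
    (hab : ∀ a ∈ R, ∀ b ∈ R, a * b = b * a)
    (hC : ∀ w ∈ R, w ≠ 1 → Subgroup.centralizer ({w} : Set G) = R)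
    (hcard : Nat.card R * Nat.card (Subgroup.centralizer ({x} : Set G)) = Nat.card G)
    (hco : (Nat.card R).Coprime (Nat.card (Subgroup.centralizer ({x} : Set G))))
    {u : G} (hu : u⁻¹ * x * u ∈ Subgroup.centralizer ({x} : Set G)) :
    u ∈ Subgroup.centralizer ({x} : Set G) := by
  classical
  set H := Subgroup.centralizer ({x} : Set G) with hH
  set N := Subgroup.normalizer (R : Set G) with hN
  letI : Fintype N := Fintype.ofFinite _
  letI : Fintype H := Fintype.ofFinite _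
  set K := FrobTI.KN R with hK
  letI : Fintype K := Fintype.ofFinite _
  set a := Nat.card R with ha
  set e := K.index with he
  have hidx : H.index = a := by
    have h1 := H.index_mul_card
    rw [← hcard] at h1
    exact Nat.eq_of_mul_eq_mul_right Nat.card_pos h1
  have ha1 : 1 < a := by
    by_contra hle
    have h1 : a = 1 := by
      have := Nat.card_pos (α := R)
      omega
    rw [h1, Subgroup.index_eq_one] at hidx
    exact hx (Subgroup.mem_center_iff.2 fun g =>
      Subgroup.mem_centralizer_singleton_iff.1 (show g ∈ H by rw [hidx]; exact Subgroup.mem_top g))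
  have hTI : ∀ g : G, g ∉ Subgroup.normalizer (R : Set G) → ∀ k ∈ R, g * k * g⁻¹ ∈ R → k = 1 := by
    intro g hg k hk hgk
    by_contra hk1
    have hgk1 : g * k * g⁻¹ ≠ 1 := fun h => hk1 (conj_eq_one_iff.1 h)
    refine hg (Subgroup.mem_normalizer_iff.2 fun z => ?_)
    have h1 := hC k hk hk1
    have h2 := hC _ hgk hgk1
    constructor
    · intro hz
      rw [← h1, Subgroup.mem_centralizer_singleton_iff] at hz
      rw [← h2, Subgroup.mem_centralizer_singleton_iff]
      calc g * z * g⁻¹ * (g * k * g⁻¹) = g * (z * k) * g⁻¹ := by group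
        _ = g * (k * z) * g⁻¹ := by rw [hz]
        _ = g * k * g⁻¹ * (g * z * g⁻¹) := by group
    · intro hz
      rw [← h2, Subgroup.mem_centralizer_singleton_iff] at hz
      rw [← h1, Subgroup.mem_centralizer_singleton_iff]
      calc z * k = g⁻¹ * (g * z * g⁻¹ * (g * k * g⁻¹)) * g := by group
        _ = g⁻¹ * (g * k * g⁻¹ * (g * z * g⁻¹)) * g := by rw [hz]
        _ = k * z := by group
  have hfix := FrobTI.fix_of_centralizer R (fun k hk hk1 => (hC k hk hk1).le)
  have hab' : ∀ p ∈ K, ∀ q ∈ K, p * q = q * p := fun p hp q hq => Subtype.ext (hab _ hp _ hq)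
  have hKcard : Nat.card K = a :=
    Nat.card_congr (Subgroup.subgroupOfEquivOfLe (Subgroup.le_normalizer)).toEquiv
  have hNcard : Nat.card N = a * e := by rw [← hKcard]; exact (K.card_mul_index).symm
  have he0 : 0 < e := Nat.pos_of_ne_zero Subgroup.index_ne_zero_of_finite
  have heH : e ∣ Nat.card H := by
    have h1 : Nat.card N ∣ Nat.card G := Subgroup.card_subgroup_dvd_card N
    rw [hNcard, ← hcard] at h1
    exact Nat.dvd_of_mul_dvd_mul_left (by omega) h1
  -- the characters of the normalizer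
  let Rel : Finset (IrrCharacter N) :=
    Finset.univ.filter fun φ => FrobTI.NonTriv K (φ : N → ℂ)
  have hmemRel : ∀ {φ : IrrCharacter N}, φ ∈ Rel → FrobTI.NonTriv K (φ : N → ℂ) := fun hφ =>
    (Finset.mem_filter.1 hφ).2
  have hdeg : ∀ φ ∈ Rel, (φ : N → ℂ) 1 = (e : ℂ) := fun φ hφ =>
    FrobTI.degree_eq_index K hab' hfix φ.2 (hmemRel hφ)
  have hvan : ∀ φ ∈ Rel, ∀ n : N, (n : G) ∉ R → (φ : N → ℂ) n = 0 := fun φ hφ n hn =>
    FrobTI.vanish K hfix φ.2 (hmemRel hφ) hn
  have hRel : Rel.card * e + 1 = a := by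
    have h1 := FrobTI.sum_sq_nonTriv K
    rw [Finset.sum_congr rfl fun φ hφ => by rw [hdeg φ hφ], Finset.sum_const, nsmul_eq_mul, hNcard] at h1
    have h2 : ((Rel.card * e + 1 : ℕ) : ℂ) * (e : ℂ) = (a : ℂ) * (e : ℂ) := by
      push_cast at h1 ⊢
      linear_combination h1
    exact_mod_cast mul_right_cancel₀ (Nat.cast_ne_zero.2 he0.ne') h2
  -- the permutation character
  set π := indFun H (fun _ => (1 : ℂ)) with hπ
  have hπc : IsCharacter G π := isCharacter_indFun H IsChar.one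
  have hπ1 : π 1 = (a : ℂ) := by rw [hπ, indFun_one_eq, hidx, mul_one]
  have hπR : ∀ k ∈ R, k ≠ 1 → π k = 0 := by
    intro k hk hk1
    refine indFun_eq_zero_of_not_conj H _ fun y hy => absurd ?_ hk1
    have h1 : orderOf k ∣ a := R.orderOf_dvd_natCard hk
    have h2 : orderOf k ∣ Nat.card H := by
      have := H.orderOf_dvd_natCard hy
      rwa [show y⁻¹ * k * y = MulAut.conj y⁻¹ k by simp, MulEquiv.orderOf_eq] at this
    exact orderOf_eq_one_iff.1 (Nat.eq_one_of_dvd_coprimes hco h1 h2)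
  obtain ⟨m, hm, hπdec⟩ := IsChar.exists_decomp_inner hπc
  let one : IrrCharacter G := ⟨fun _ => 1, isIrr_one⟩
  have hm1 : m one = 1 := by
    have h1 := hm one
    rw [hπ, classInner_indFun H _ (IsIrr.classFun one.2)] at h1
    have h2 : classInner (fun _ : H => (1 : ℂ)) (fun h : H => (one : G → ℂ) h) = 1 :=
      classInner_self_irr isIrr_one
    rw [h2] at h1
    exact_mod_cast h1.symm
  -- restrictions
  have hres : ∀ ψ : IrrCharacter G, IsCharacter N (fun n : N => (ψ : G → ℂ) n) := fun ψ =>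
    IsChar.res (IsIrr.isCharacter ψ.2) N
  choose k hk hkdec using fun ψ : IrrCharacter G => IsChar.exists_decomp_inner (hres ψ)
  choose d hd using fun ψ : IrrCharacter G => IsIrr.one_eq_pos ψ.2
  choose f hf using fun φ : IrrCharacter N => IsIrr.one_eq_pos φ.2
  have hdsum : ∀ ψ, d ψ = ∑ φ, k ψ φ * f φ := by
    intro ψ
    have h1 := congrFun (hkdec ψ) 1
    rw [sum_irr_apply] at h1
    simp only [Subgroup.coe_one, (hd ψ).2] at h1
    rw [Finset.sum_congr rfl fun φ _ => by rw [(hf φ).2, ← Nat.cast_mul], ← Nat.cast_sum] at h1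
    exact_mod_cast h1
  have hfRel : ∀ φ ∈ Rel, f φ = e := fun φ hφ => by
    have h1 := hdeg φ hφ
    rw [(hf φ).2] at h1
    exact_mod_cast h1
  have hk1 : ∀ φ ∈ Rel, k one φ = 0 := by
    intro φ hφ
    have h1 := hk one φ
    have hne : (fun _ : N => (1 : ℂ)) ≠ (φ : N → ℂ) := by
      intro hc
      obtain ⟨z, -, hz⟩ := hmemRel hφ
      exact hz (by rw [← hc])
    rw [show classInner (fun n : N => (one : G → ℂ) n) (φ : N → ℂ) = 0 from
      classInner_irr_ne isIrr_one φ.2 hne] at h1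
    exact_mod_cast h1.symm
  have hsum1 : ∀ φ ∈ Rel, ∑ ψ, m ψ * k ψ φ = 1 := by
    intro φ hφ
    have hsplit : classInner (fun n : N => π n) (φ : N → ℂ) = ((∑ ψ, m ψ * k ψ φ : ℕ) : ℂ) := by
      have h1 : (fun n : N => π n) =
          ∑ ψ : IrrCharacter G, (m ψ : ℂ) • (fun n : N => (ψ : G → ℂ) n) := by
        funext n
        simp [hπdec, Finset.sum_apply]
      rw [h1, classInner_sum_left, Nat.cast_sum]
      refine Finset.sum_congr rfl fun ψ _ => ?_
      rw [classInner_smul_left, hk, Nat.cast_mul]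
    have hval : classInner (fun n : N => π n) (φ : N → ℂ) = 1 := by
      rw [classInner, Finset.sum_eq_single (1 : N)]
      · rw [Subgroup.coe_one, hπ1, hdeg φ hφ, hNcard, map_natCast, Nat.cast_mul,
          inv_mul_cancel₀ (mul_ne_zero (Nat.cast_ne_zero.2 (by omega)) (Nat.cast_ne_zero.2 he0.ne'))]
      · intro n _ hn
        by_cases hnR : (n : G) ∈ R
        · rw [hπR n hnR (fun h => hn (Subtype.ext h)), zero_mul]
        · rw [hvan φ hφ n hnR, map_zero, mul_zero]
      · exact fun h => absurd (Finset.mem_univ _) h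
    rw [hval] at hsplit
    exact_mod_cast hsplit.symm
  have hdge : ∀ ψ, e * ∑ φ ∈ Rel, k ψ φ ≤ d ψ := by
    intro ψ
    rw [hdsum ψ, Finset.mul_sum]
    refine le_trans (le_of_eq (Finset.sum_congr rfl fun φ hφ => ?_))
      (Finset.sum_le_sum_of_subset (Finset.subset_univ Rel))
    rw [hfRel φ hφ, mul_comm]
  have htot : ∑ ψ ∈ Finset.univ.erase one, m ψ * d ψ = Rel.card * e := by
    have h1 := congrFun hπdec 1
    rw [sum_irr_apply, hπ1, Finset.sum_congr rfl fun ψ _ => by rw [(hd ψ).2, ← Nat.cast_mul],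
      ← Nat.cast_sum] at h1
    have h2 : a = ∑ ψ, m ψ * d ψ := by exact_mod_cast h1
    have h3 : d one = 1 := by
      have h4 : ((d one : ℕ) : ℂ) = ((1 : ℕ) : ℂ) := by rw [← (hd one).2, Nat.cast_one]
      exact Nat.cast_injective h4
    rw [← Finset.add_sum_erase _ _ (Finset.mem_univ one), hm1, h3] at h2
    omega
  have hrel : ∑ ψ ∈ Finset.univ.erase one, m ψ * (e * ∑ φ ∈ Rel, k ψ φ) = Rel.card * e := by
    calc ∑ ψ ∈ Finset.univ.erase one, m ψ * (e * ∑ φ ∈ Rel, k ψ φ)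
        = ∑ ψ, m ψ * (e * ∑ φ ∈ Rel, k ψ φ) := Finset.sum_erase _ (by rw [Finset.sum_eq_zero hk1, mul_zero, mul_zero])
      _ = ∑ ψ, ∑ φ ∈ Rel, e * (m ψ * k ψ φ) := by
          refine Finset.sum_congr rfl fun ψ _ => ?_
          rw [Finset.mul_sum, Finset.mul_sum]
          exact Finset.sum_congr rfl fun φ _ => by ring
      _ = ∑ φ ∈ Rel, e * ∑ ψ, m ψ * k ψ φ := by
          rw [Finset.sum_comm]
          exact Finset.sum_congr rfl fun φ _ => by rw [Finset.mul_sum]
      _ = Rel.card * e := by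
          rw [Finset.sum_congr rfl fun φ hφ => by rw [hsum1 φ hφ, mul_one], Finset.sum_const, smul_eq_mul]
  have hdeq : ∀ ψ, ψ ≠ one → m ψ ≠ 0 → d ψ = e * ∑ φ ∈ Rel, k ψ φ := by
    intro ψ hψ hmψ
    have h1 := (Finset.sum_eq_sum_iff_of_le (fun ψ _ => Nat.mul_le_mul_left (m ψ) (hdge ψ))).1
      (hrel.trans htot.symm) ψ (Finset.mem_erase.2 ⟨hψ, Finset.mem_univ _⟩)
    exact (Nat.eq_of_mul_eq_mul_left (Nat.pos_of_ne_zero hmψ) h1).symm
  -- unique constituent for every member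
  have huniq : ∀ φ ∈ Rel, ∃ ψ, m ψ ≠ 0 ∧ k ψ φ = 1 := by
    intro φ hφ
    obtain ⟨ψ, -, hψ⟩ := Finset.exists_ne_zero_of_sum_ne_zero (ne_of_eq_of_ne (hsum1 φ hφ) one_ne_zero)
    refine ⟨ψ, left_ne_zero_of_mul hψ, ?_⟩
    have h1 : m ψ * k ψ φ ≤ 1 :=
      (Finset.single_le_sum (fun j _ => Nat.zero_le (m j * k j φ)) (Finset.mem_univ ψ)).trans_eq (hsum1 φ hφ)
    have h2 : m ψ * k ψ φ = 1 := by omega
    exact Nat.eq_one_of_mul_eq_one_left h2
  have hle1 : ∀ ψ, m ψ ≠ 0 → ∀ φ ∈ Rel, k ψ φ ≤ 1 := by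
    intro ψ hmψ φ hφ
    have h1 : m ψ * k ψ φ ≤ 1 :=
      (Finset.single_le_sum (fun j _ => Nat.zero_le (m j * k j φ)) (Finset.mem_univ ψ)).trans_eq (hsum1 φ hφ)
    exact le_trans (Nat.le_mul_of_pos_left _ (Nat.pos_of_ne_zero hmψ)) h1
  have hexcl : ∀ ψ ψ', m ψ ≠ 0 → m ψ' ≠ 0 → ψ ≠ ψ' → ∀ φ ∈ Rel, k ψ φ = 1 → k ψ' φ = 0 := by
    intro ψ ψ' h1 h2 hne φ hφ h3
    by_contra h4
    have h5 : m ψ * k ψ φ + m ψ' * k ψ' φ ≤ ∑ j, m j * k j φ := by
      rw [← Finset.sum_pair (f := fun j => m j * k j φ) hne]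
      exact Finset.sum_le_sum_of_subset (Finset.subset_univ _)
    rw [hsum1 φ hφ] at h5
    have := Nat.pos_of_ne_zero (mul_ne_zero h2 h4)
    have : 0 < m ψ * k ψ φ := by rw [h3, mul_one]; exact Nat.pos_of_ne_zero h1
    omega
  -- the shape of a constituent
  have hshape : ∀ ψ, ψ ≠ one → m ψ ≠ 0 → (d ψ).Coprime a := by
    intro ψ hψ hmψ
    let S := Rel.filter fun φ => k ψ φ = 1
    have hS : ∑ φ ∈ Rel, k ψ φ = S.card := by
      rw [Finset.card_filter]
      refine Finset.sum_congr rfl fun φ hφ => ?_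
      have := hle1 ψ hmψ φ hφ
      split_ifs with h <;> omega
    have hd' := hdeq ψ hψ hmψ
    rw [hS] at hd'
    by_cases hall : S = Rel
    · rw [hd', hall, mul_comm]
      have h1 : (Rel.card * e).Coprime (Rel.card * e + 1) :=
        (Nat.coprime_self_add_right).2 (Nat.coprime_one_right _)
      rwa [hRel] at h1
    have hS0 : S.card ≠ 0 := fun h => by rw [h, mul_zero] at hd'; exact (hd ψ).1.ne' hd'
    by_cases hS1 : S.card = 1
    · rw [hd', hS1, mul_one]
      exact (hco.symm).coprime_dvd_left heH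
    exfalso
    obtain ⟨φ₁, h₁, φ₂, h₂, h12⟩ := Finset.one_lt_card.1 (show 1 < S.card by omega)
    obtain ⟨φ₃, h₃, h₃'⟩ : ∃ φ ∈ Rel, φ ∉ S := by
      by_contra hc
      push Not at hc
      exact hall (Finset.Subset.antisymm (Finset.filter_subset _ _) hc)
    obtain ⟨hR₁, hk₁⟩ := Finset.mem_filter.1 h₁
    obtain ⟨hR₂, hk₂⟩ := Finset.mem_filter.1 h₂
    obtain ⟨ψ', hmψ', hk₃'⟩ := huniq φ₃ h₃
    have hne : ψ ≠ ψ' := fun h => h₃' (Finset.mem_filter.2 ⟨h₃, h ▸ hk₃'⟩)
    have hk₃ : k ψ φ₃ = 0 := hexcl ψ' ψ hmψ' hmψ hne.symm φ₃ h₃ hk₃'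
    have hk₁' : k ψ' φ₁ = 0 := hexcl ψ ψ' hmψ hmψ' hne φ₁ hR₁ hk₁
    have hk₂' : k ψ' φ₂ = 0 := hexcl ψ ψ' hmψ hmψ' hne φ₂ hR₂ hk₂
    let c : IrrCharacter N → IrrCharacter G → ℤ := fun φ j => (k j φ : ℤ) - (k j φ₃ : ℤ)
    let F : IrrCharacter N → N → ℂ := fun φ => (φ : N → ℂ) - (φ₃ : N → ℂ)
    have hFexp : ∀ φ, indFun N (F φ) = ∑ j : IrrCharacter G, (c φ j : ℂ) • (j : G → ℂ) := by
      intro φ
      conv_lhs => rw [classFunction_expansion (indFun_classFun N (F φ))]
      refine Finset.sum_congr rfl fun j _ => ?_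
      congr 1
      rw [classInner_indFun N _ (IsIrr.classFun j.2), ← classInner_conj_symm, classInner_sub_right, hk, hk]
      simp [c]
    have hiso : ∀ φ φ', φ ∈ Rel → φ' ∈ Rel →
        ((∑ j : IrrCharacter G, c φ j * c φ' j : ℤ) : ℂ) = classInner (F φ) (F φ') := by
      intro φ φ' hφ hφ'
      have hsupp : ∀ φ ∈ Rel, ∀ n : N, (n : G) ∉ R → F φ n = 0 := fun φ hφ n hn => by
        simp only [F, Pi.sub_apply, hvan φ hφ n hn, hvan φ₃ h₃ n hn, sub_self]
      have h1 := Exceptional.ti_isometry (S := (R : Set G)) (α := F φ) (β := F φ')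
        (fun g hg s hs h => hTI g hg s hs h) (hsupp φ hφ)
        (classFunction_sub (IsIrr.classFun φ'.2) (IsIrr.classFun φ₃.2)) (hsupp φ' hφ')
        (by simp only [F, Pi.sub_apply, hdeg φ' hφ', hdeg φ₃ h₃, sub_self])
      rw [← h1, hFexp, hFexp, classInner_sum_sum]
      push_cast
      exact Finset.sum_congr rfl fun j _ => by rw [map_intCast]
    have h13 : φ₁ ≠ φ₃ := fun h => h₃' (h ▸ h₁)
    have h23 : φ₂ ≠ φ₃ := fun h => h₃' (h ▸ h₂)
    have hval : ∀ φ φ', φ ≠ φ₃ → φ' ≠ φ₃ → classInner (F φ) (F φ') =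
        ((if φ = φ' then 2 else 1 : ℤ) : ℂ) := by
      intro φ φ' hp hq
      simp only [F, classInner_sub_left, classInner_sub_right, classInner_irr_eq_ite φ.2 φ'.2,
        classInner_irr_ne φ.2 φ₃.2 (Subtype.coe_ne_coe.2 hp),
        classInner_irr_ne φ₃.2 φ'.2 (Subtype.coe_ne_coe.2 hq.symm), classInner_self_irr φ₃.2,
        Subtype.coe_inj]
      split_ifs <;> norm_num
    have h11 : ∑ j : IrrCharacter G, c φ₁ j * c φ₁ j = 2 := by
      have := (hiso φ₁ φ₁ hR₁ hR₁).trans (hval φ₁ φ₁ h13 h13)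
      rw [if_pos rfl] at this
      exact_mod_cast this
    have h12' : ∑ j : IrrCharacter G, c φ₁ j * c φ₂ j = 1 := by
      have := (hiso φ₁ φ₂ hR₁ hR₂).trans (hval φ₁ φ₂ h13 h23)
      rw [if_neg h12] at this
      exact_mod_cast this
    have hcψ : c φ₁ ψ = 1 ∧ c φ₁ ψ' = -1 ∧ c φ₂ ψ = 1 ∧ c φ₂ ψ' = -1 := by
      simp [c, hk₁, hk₂, hk₃, hk₁', hk₂', hk₃']
    have hzero : ∀ j, j ≠ ψ → j ≠ ψ' → c φ₁ j = 0 := by
      intro j hj hj'
      have hsub : ∑ i ∈ ({ψ, ψ', j} : Finset (IrrCharacter G)), c φ₁ i * c φ₁ i ≤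
          ∑ i : IrrCharacter G, c φ₁ i * c φ₁ i :=
        Finset.sum_le_sum_of_subset_of_nonneg (Finset.subset_univ _) fun i _ _ => mul_self_nonneg _
      rw [Finset.sum_insert (by simp [hne, Ne.symm hj]), Finset.sum_pair (Ne.symm hj'), h11, hcψ.1,
        hcψ.2.1] at hsub
      nlinarith [mul_self_nonneg (c φ₁ j), hsub]
    rw [← Finset.sum_subset (Finset.subset_univ ({ψ, ψ'} : Finset (IrrCharacter G))) (fun j _ hj => by
      simp only [Finset.mem_insert, Finset.mem_singleton, not_or] at hj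
      rw [hzero j hj.1 hj.2, zero_mul]), Finset.sum_pair hne, hcψ.1, hcψ.2.1, hcψ.2.2.1, hcψ.2.2.2] at h12'
    norm_num at h12'
  -- the constituents are faithful
  have hfaith : ∀ ψ, ψ ≠ one → m ψ ≠ 0 → ∀ g : G, (ψ : G → ℂ) g = (ψ : G → ℂ) 1 → g = 1 := by
    intro ψ hψ hmψ g hg
    obtain ⟨n', ρ, hρ, he'⟩ := ψ.2
    haveI := hρ
    have hk' : ∀ g' : G, g' ∈ MonoidHom.ker ρ ↔ (ψ : G → ℂ) g' = (ψ : G → ℂ) 1 := fun g' => by
      rw [← he', Representation.char_one]
      exact MonoidHom.mem_ker.trans (character_eq_finrank_iff ρ g').symm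
    rcases hmin _ (MonoidHom.normal_ker ρ) with hb | hle
    · exact Subgroup.mem_bot.1 (hb ▸ (hk' g).2 hg)
    exfalso
    obtain ⟨φ, hφ, hkφ⟩ : ∃ φ ∈ Rel, k ψ φ ≠ 0 := by
      refine Finset.exists_ne_zero_of_sum_ne_zero fun h0 => ?_
      have := hdeq ψ hψ hmψ
      rw [h0, mul_zero] at this
      exact (hd ψ).1.ne' this
    refine hkφ ?_
    have hne : (fun _ : N => (1 : ℂ)) ≠ (φ : N → ℂ) := by
      intro hc
      obtain ⟨z, -, hz⟩ := hmemRel hφ
      exact hz (by rw [← hc])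
    have h2 : classInner (fun n : N => (ψ : G → ℂ) n) (φ : N → ℂ) =
        (ψ : G → ℂ) 1 * classInner (fun _ : N => (1 : ℂ)) (φ : N → ℂ) := by
      rw [← classInner_smul_left]
      simp only [classInner]
      congr 1
      refine Finset.sum_congr rfl fun n _ => ?_
      by_cases hnR : (n : G) ∈ R
      · rw [(hk' _).1 (hle hnR)]
        simp
      · rw [hvan φ hφ n hnR, map_zero, mul_zero, mul_zero]
    rw [classInner_irr_ne isIrr_one φ.2 hne, mul_zero, hk] at h2
    exact_mod_cast h2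
  -- the value at `x`
  have hπx : π x = 1 := by
    have h1 := congrFun hπdec x
    rw [sum_irr_apply, ← Finset.add_sum_erase _ _ (Finset.mem_univ one), Finset.sum_eq_zero, add_zero, hm1,
      Nat.cast_one, one_mul] at h1
    · exact h1
    intro ψ hψ
    by_cases hmψ : m ψ = 0
    · rw [hmψ, Nat.cast_zero, zero_mul]
    rw [char_eq_zero_of_faithful (hfaith ψ (Finset.mem_erase.1 hψ).1 hmψ) hx (hd ψ).2
      (by rw [← hH, hidx]; exact hshape ψ (Finset.mem_erase.1 hψ).1 hmψ), mul_zero]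
  -- counting
  set U := Finset.univ.filter fun v : G => v⁻¹ * x * v ∈ H with hU
  have hUc : U.card = Nat.card H := by
    have h1 := hπx
    simp only [hπ, indFun] at h1
    rw [Finset.sum_congr rfl (g := fun v => if v⁻¹ * x * v ∈ H then (1 : ℂ) else 0) (fun v _ => by
      split_ifs with hv
      · rw [extendByZero_of_mem _ hv]
      · exact extendByZero_not_mem _ hv), Finset.sum_boole,
      inv_mul_eq_iff_eq_mul₀ (Nat.cast_ne_zero.2 Nat.card_pos.ne'), mul_one] at h1
    exact_mod_cast h1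
  have hsub : Finset.univ.filter (fun v : G => v ∈ H) ⊆ U := by
    intro v hv
    rw [Finset.mem_filter] at hv
    rw [hU, Finset.mem_filter]
    refine ⟨Finset.mem_univ _, ?_⟩
    exact H.mul_mem (H.mul_mem (H.inv_mem hv.2) (Subgroup.mem_centralizer_singleton_iff.2 rfl)) hv.2
  have heq := Finset.eq_of_subset_of_card_le hsub (by
    rw [hUc, Nat.card_eq_fintype_card, Fintype.card_subtype])
  have : u ∈ U := by rw [hU, Finset.mem_filter]; exact ⟨Finset.mem_univ _, hu⟩
  rw [← heq, Finset.mem_filter] at this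
  exact this.2

end Cfsg.Agent.Transfer.ClassThree
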