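import Cfsg.Agent.Lib.Transfer.ClassThree.Fit
import Cfsg.Agent.Lib.Transfer.ClassThree.TIChar
import Cfsg.Agent.S0215
import Cfsg.Agent.S4146
import Cfsg.Agent.S2202
import Cfsg.Agent.S4355
import Cfsg.Agent.Lib.Fus.CTSimpleLinear
import Cfsg.Agent.Lib.Classical.DicksonFacts

/-!
Centreless groups with at most three nontrivial class sizes.
-/

set_option autoImplicit false
set_option maxHeartbeats 1000000

open scoped Pointwise

universe u

namespace Cfsg.Agent.Transfer.ClassThree

open Cfsg Cfsg.Agent Cfsg.Agent.Transfer.ClassDisconnected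

variable {G : Type u} [Group G] [Finite G]

theorem exists_involution_mem {K : Subgroup G} (h : 2 ∣ Nat.card K) : ∃ t ∈ K, orderOf t = 2 := by
  haveI : Fact (Nat.Prime 2) := ⟨Nat.prime_two⟩
  obtain ⟨⟨t, ht⟩, ho⟩ := exists_prime_orderOf_dvd_card' (G := K) 2 h
  exact ⟨t, ht, by rwa [Subgroup.orderOf_mk] at ho⟩

theorem ne_one_of_two {t : G} (h : orderOf t = 2) : t ≠ 1 := ne_one_of_prime Nat.prime_two h

/-- A nontrivial soluble normal subgroup contains a nontrivial abelian normal subgroup. -/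
theorem exists_abelian_le (N : Subgroup G) :
    N.Normal → N ≠ ⊥ → Group.IsSolvable N →
    ∃ A : Subgroup G, A.Normal ∧ A ≠ ⊥ ∧ ∀ u ∈ A, ∀ v ∈ A, u * v = v * u := by
  induction N using WellFoundedLT.induction with
  | ind N ih =>
    intro hN hne hsol
    by_cases hc : ⁅N, N⁆ = ⊥
    · refine ⟨N, hN, hne, fun a ha b hb => ?_⟩
      have h := Subgroup.commutator_mem_commutator ha hb
      rw [hc, Subgroup.mem_bot, commutatorElement_eq_one_iff_mul_comm] at h
      exact h
    · haveI := (Subgroup.nontrivial_iff_ne_bot N).mpr hne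
      have hle : ⁅N, N⁆ ≤ N := Subgroup.commutator_le_self N
      have hlt : ⁅N, N⁆ < N := by
        refine lt_of_le_of_ne hle fun e => ?_
        have h1 := Group.IsSolvable.commutator_lt_top_of_nontrivial N
        refine h1.ne ?_
        apply Subgroup.map_injective N.subtype_injective
        rw [Subgroup.map_subtype_commutator, ← MonoidHom.range_eq_map, Subgroup.range_subtype, e]
      haveI := hN
      refine ih _ hlt (Subgroup.commutator_normal N N) hc ?_
      haveI := hsol
      exact Group.isSolvable_of_isSolvable_injective (f := Subgroup.inclusion hle)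
        (Subgroup.inclusion_injective hle)

namespace CC

variable {a b c : ℕ} {R : Subgroup G}

theorem solvable_eq_bot (H : CC G a b c R) {L : Subgroup G} (hL : L.Normal) (hs : Group.IsSolvable L) :
    L = ⊥ := by
  by_contra hne
  obtain ⟨A, hA, hA1, hA2⟩ := exists_abelian_le L hL hne hs
  haveI : IsMulCommutative A := ⟨⟨fun u v => Subtype.ext (hA2 u u.2 v v.2)⟩⟩
  refine hA1 (le_bot_iff.1 ?_)
  rw [← H.fitting_eq_bot]
  letI : CommGroup A := { (inferInstance : Group A) with mul_comm := fun u v => mul_comm' u v }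
  exact Grp.le_fittingSubgroup hA CommGroup.isNilpotent

theorem minimal_normal (H : CC G a b c R) (L : Subgroup G) (hL : L.Normal) : L = ⊥ ∨ R ≤ L := by
  haveI := hL
  rcases H.le_or_solvable (X := L) with h | h
  · exact Or.inr h
  · exact Or.inl (H.solvable_eq_bot hL h)

theorem isolated (H : CC G a b c R) {x : G} (hx : cix x = a) {u : G}
    (hu : u⁻¹ * x * u ∈ cen x) : u ∈ cen x := by
  letI := Fintype.ofFinite G
  refine ClassThree.isolated R H.minimal_normal (fun h => ?_) H.comm
    (fun w hw hw1 => H.cenR w hw hw1) ?_ ?_ hu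
  · rw [H.t3.hZ, Subgroup.mem_bot] at h
    exact H.t3.ne_one_a hx h
  · rw [H.cardR, H.card_a hx, H.cardG]
  · rw [H.cardR, H.card_a hx]
    exact H.t3.cop

theorem not_commute' (H : CC G a b c R) {x y : G} (hx : cix x = a) (hy : cix y = b) : ¬ Commute x y := fun h =>
  H.t3.ne_one_a hx (orderOf_eq_one_iff.1 (Nat.eq_one_of_dvd_coprimes H.t3.cop
    (H.card_b hy ▸ Subgroup.orderOf_dvd_natCard _ (mem_cen.2 h : x ∈ cen y))
    (H.card_a hx ▸ Subgroup.orderOf_dvd_natCard _ (self_mem_cen x))))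

theorem cix_involution (H : CC G a b c R) (h2a : ¬ 2 ∣ a) {t : G} (ht : orderOf t = 2) : cix t = c := by
  haveI : Fact (Nat.Prime 2) := ⟨Nat.prime_two⟩
  rcases H.t3.mem t (ne_one_of_two ht) with h | h | h
  · exfalso
    obtain ⟨P, hP⟩ := exists_sylow_le_centralizer (r := 2) (u := t) (fun h2 => h2a (h ▸ h2))
    have hz : IsPGroup 2 (Subgroup.zpowers t) := IsPGroup.of_card (n := 1) (by rw [Nat.card_zpowers, ht, pow_one])
    have hnorm : (P : Subgroup G) ≤ Subgroup.normalizer (Subgroup.zpowers t : Set G) := by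
      refine le_trans ?_ (Subgroup.centralizer_le_normalizer _)
      intro p hp
      refine Subgroup.mem_centralizer_iff.2 fun z hz => ?_
      obtain ⟨i, rfl⟩ := hz
      exact ((mem_cen.1 (hP hp)).zpow_right i).eq.symm
    have hsup : IsPGroup 2 ↥((P : Subgroup G) ⊔ Subgroup.zpowers t) :=
      P.isPGroup'.to_sup_of_normal_right' hz hnorm
    have htP : t ∈ (P : Subgroup G) := (P.is_maximal' hsup le_sup_left) ▸
      Subgroup.mem_sup_right (Subgroup.mem_zpowers t)
    obtain ⟨N, hN, hNodd, hNc⟩ := Cfsg.Agent.S0215.result P t ht htP fun g hg => by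
      have hg' : g⁻¹ ∈ Subgroup.centralizer ({t} : Set G) :=
        H.isolated h (by rw [inv_inv]; exact hP hg)
      have := mem_cen.1 (inv_mem hg')
      rw [inv_inv] at this
      rw [this.eq, mul_inv_cancel_right]
    refine ne_one_of_two ht (H.t3.center_top fun g => ?_)
    have h1 := hNc g
    rw [H.solvable_eq_bot hN (Cfsg.Agent.S0205.result hNodd), Subgroup.mem_bot] at h1
    exact (mul_inv_eq_iff_eq_mul.1 (mul_inv_eq_one.1 h1)).symm
  · exact absurd (H.card_b h ▸ ht ▸ Subgroup.orderOf_dvd_natCard _ (self_mem_cen t)) h2a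
  · exact h

theorem false_of_odd (H : CC G a b c R) (h2a : ¬ 2 ∣ a) : False := by
  have T := H.t3
  classical
  haveI : Fact (Nat.Prime 2) := ⟨Nat.prime_two⟩
  obtain ⟨x, hx⟩ := T.exA
  set Hx := Subgroup.centralizer ({x} : Set G) with hH
  have hHb : Nat.card Hx = b := H.card_a hx
  have h2b : 2 ∣ b := by
    have h2 : 2 ∣ Nat.card G := by
      by_contra hc
      exact T.hns (isSolvable_of_not_two_dvd hc)
    rw [H.cardG] at h2
    exact (Nat.prime_two.dvd_mul.1 h2).resolve_left h2a
  have hxodd : ¬ 2 ∣ orderOf x := by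
    intro h2
    set t := x ^ (orderOf x / 2) with ht
    have hto : orderOf t = 2 := orderOf_pow_orderOf_div (orderOf_pos x).ne' h2
    have hd : cix t ∣ cix x := cix_pow_dvd x _
    rw [H.cix_involution h2a hto, hx] at hd
    exact T.ne_ac (Nat.dvd_antisymm T.adc hd)
  have hcent : ∀ s ∈ Hx, orderOf s = 2 → Subgroup.centralizer ({s} : Set G) ≤ Hx := fun s hs hso =>
    T.minimal (H.cix_involution h2a hso) (mem_cen.1 hs)
      (by rw [hso]; exact (Nat.prime_two.coprime_iff_not_dvd).2 hxodd)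
  obtain ⟨t, htH, hto⟩ := exists_involution_mem (K := Hx) (hHb ▸ h2b)
  have htc := H.cix_involution h2a hto
  have hCt := hcent t htH hto
  -- conjugates of `t` in `Hx`
  set t' : Hx := ⟨t, htH⟩
  have hJH : cl t ∩ (Hx : Set G) = Hx.subtype '' cl t' := by
    ext j
    constructor
    · rintro ⟨hj, hjH⟩
      obtain ⟨g, rfl⟩ := isConj_iff.1 hj
      have h1 : g⁻¹ * x * g ∈ Subgroup.centralizer ({t} : Set G) := by
        have h2 := mem_cen.1 hjH
        rw [mem_cen]
        show g⁻¹ * x * g * t = t * (g⁻¹ * x * g)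
        calc g⁻¹ * x * g * t = g⁻¹ * (x * (g * t * g⁻¹)) * g := by group
          _ = g⁻¹ * (g * t * g⁻¹ * x) * g := by rw [h2.eq]
          _ = t * (g⁻¹ * x * g) := by group
      have hg : g ∈ Hx := H.isolated hx (hCt h1)
      exact ⟨⟨g * t * g⁻¹, hjH⟩, isConj_iff.2 ⟨⟨g, hg⟩, Subtype.ext rfl⟩, rfl⟩
    · rintro ⟨j', hj', rfl⟩
      obtain ⟨g, rfl⟩ := isConj_iff.1 hj'
      exact ⟨isConj_iff.2 ⟨(g : G), rfl⟩, (g * t' * g⁻¹).2⟩
  set n := (cl t ∩ (Hx : Set G)).ncard with hn
  have hn' : n * a = c := by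
    have h1 : n = cix t' := by rw [hn, hJH, Set.ncard_image_of_injective _ Hx.subtype_injective, ncard_cl]
    have h2 : cen t' = (Subgroup.centralizer ({t} : Set G)).subgroupOf Hx := by
      ext g
      rw [Subgroup.mem_subgroupOf, mem_cen, mem_cen]
      exact ⟨fun hg => congrArg Subtype.val hg.eq, fun hg => Subtype.ext hg⟩
    have h3 := card_mul_cix t'
    rw [← h1, h2, Nat.card_congr (Subgroup.subgroupOfEquivOfLe hCt).toEquiv, hHb] at h3
    have h4 := card_mul_cix t
    rw [htc, H.cardG, ← h3] at h4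
    exact Nat.eq_of_mul_eq_mul_left Nat.card_pos (by rw [h4]; ring)
  have hn2 : 2 ≤ n := by
    have hc0 : c ≠ 0 := htc ▸ (cix_pos t).ne'
    by_contra hlt
    rcases (by omega : n = 0 ∨ n = 1) with h | h
    · rw [h, zero_mul] at hn'
      exact hc0 hn'.symm
    · rw [h, one_mul] at hn'
      exact T.ne_ac hn'
  -- two outside conjugates in one coset
  set J := cl t \ (Hx : Set G) with hJ
  have hJc : J.ncard + n = c := by
    rw [hJ, hn, add_comm, Set.ncard_inter_add_ncard_diff_eq_ncard _ _ (Set.toFinite _), ncard_cl, htc]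
  have hmaps : ∀ s ∈ J, ((s : G ⧸ Hx)) ∈ (Set.univ \ {((1 : G) : G ⧸ Hx)} : Set (G ⧸ Hx)) := by
    intro s hs
    refine ⟨Set.mem_univ _, fun h1 => hs.2 ?_⟩
    have := QuotientGroup.eq.1 (Set.mem_singleton_iff.1 h1)
    simpa using Hx.inv_mem this
  have hlt : (Set.univ \ {((1 : G) : G ⧸ Hx)} : Set (G ⧸ Hx)).ncard < J.ncard := by
    rw [Set.ncard_diff (Set.subset_univ _) (Set.toFinite _), Set.ncard_univ, Set.ncard_singleton,
      ← Subgroup.index_eq_card, show Hx.index = a from hx]
    obtain ⟨a', rfl⟩ : ∃ a', a = a' + 2 := ⟨a - 2, by have := T.ha; omega⟩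
    have h5 : 2 * (a' + 1) ≤ n * (a' + 1) := Nat.mul_le_mul_right _ hn2
    have h6 : n * (a' + 2) = n * (a' + 1) + n := by ring
    omega
  obtain ⟨s, hs, s', hs', hne, hss⟩ := Set.exists_ne_map_eq_of_ncard_lt_of_maps_to hlt hmaps (Set.toFinite _)
  have hso : ∀ {r : G}, r ∈ J → orderOf r = 2 := fun {r} hr => by
    obtain ⟨g, rfl⟩ := isConj_iff.1 hr.1
    rw [show g * t * g⁻¹ = MulAut.conj g t from rfl, MulEquiv.orderOf_eq, hto]
  have hsi : s⁻¹ = s := inv_eq_of_mul_eq_one_right (by rw [← pow_two, ← hso hs, pow_orderOf_eq_one])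
  have hs'i : s'⁻¹ = s' := inv_eq_of_mul_eq_one_right (by rw [← pow_two, ← hso hs', pow_orderOf_eq_one])
  have hdH : s * s' ∈ Hx := by
    have := QuotientGroup.eq.1 hss
    rwa [hsi] at this
  set d := s * s' with hd
  have hsH : s ∉ Hx := hs.2
  have hd1 : d ≠ 1 := fun h1 => hne (by
    have := eq_inv_of_mul_eq_one_left h1
    rwa [hs'i] at this)
  have hsd : s * d * s⁻¹ = d⁻¹ := by
    rw [hd, mul_inv_rev, hs'i, hsi, ← mul_assoc s s s', show s * s = 1 from by
      rw [← pow_two, ← hso hs, pow_orderOf_eq_one], one_mul]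
  have hdodd : ¬ 2 ∣ orderOf d := by
    intro h2
    set w := d ^ (orderOf d / 2) with hw
    have hwo : orderOf w = 2 := orderOf_pow_orderOf_div (orderOf_pos d).ne' h2
    refine hsH (hcent w (pow_mem hdH _) hwo (mem_cen.2 ?_))
    have h1 : s * w * s⁻¹ = w := by
      rw [hw, ← conj_pow, hsd, inv_pow, ← hw]
      exact inv_eq_of_mul_eq_one_right (by rw [← pow_two, ← hwo, pow_orderOf_eq_one])
    exact mul_inv_eq_iff_eq_mul.1 h1
  have hdx : Commute x d := (mem_cen.1 hdH).symm
  rcases T.mem d hd1 with hdt | hdt | hdt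
  · have h1 : s ∈ Subgroup.centralizer ({d} : Set G) := by
      refine H.isolated hdt ?_
      rw [hsi]
      nth_rewrite 2 [← hsi]
      rw [hsd, mem_cen]
      exact (Commute.refl d).inv_left
    have h2 : d⁻¹ = d := by rw [← hsd, (mem_cen.1 h1).eq, mul_inv_cancel_right]
    have h3 : orderOf d ∣ 2 := orderOf_dvd_of_pow_eq_one (by
      rw [pow_two]
      nth_rewrite 1 [← h2]
      exact inv_mul_cancel d)
    rcases (Nat.dvd_prime Nat.prime_two).1 h3 with h4 | h4
    · exact hd1 (orderOf_eq_one_iff.1 h4)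
    · exact hdodd (by rw [h4])
  · exact H.not_commute' hx hdt hdx
  · obtain ⟨w, hw, hwo⟩ := exists_involution_mem (K := Subgroup.centralizer ({d} : Set G)) (by
      have h1 := card_mul_cix d
      rw [hdt, ← card_mul_cix t, htc] at h1
      rw [Nat.eq_of_mul_eq_mul_right (Nat.pos_of_ne_zero (htc ▸ (cix_pos t).ne')) h1]
      exact hto ▸ Subgroup.orderOf_dvd_natCard _ (self_mem_cen t))
    have hCeq : ∀ v, v ∈ Subgroup.centralizer ({d} : Set G) → orderOf v = 2 →
        Subgroup.centralizer ({d} : Set G) = Subgroup.centralizer ({v} : Set G) ∧ v ∈ Hx := by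
      intro v hv hvo
      have hle := T.minimal hdt (mem_cen.1 hv).symm
        (by rw [hvo]; exact ((Nat.prime_two.coprime_iff_not_dvd).2 hdodd).symm)
      refine ⟨cen_eq_of_le hle (hdt.trans (H.cix_involution h2a hvo).symm), mem_cen.2 ?_⟩
      exact (mem_cen.1 (hle (mem_cen.2 hdx))).symm
    obtain ⟨hCw, hwH⟩ := hCeq w hw hwo
    set w' := s * w * s⁻¹ with hw'
    have hw'd : w' ∈ Subgroup.centralizer ({d} : Set G) := by
      have h1 : Commute w d⁻¹ := (mem_cen.1 hw).inv_right
      rw [mem_cen]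
      have h2 : s * d⁻¹ * s⁻¹ = d := by rw [← conj_inv, hsd, inv_inv]
      show s * w * s⁻¹ * d = d * (s * w * s⁻¹)
      nth_rewrite 1 [← h2]
      nth_rewrite 2 [← h2]
      calc s * w * s⁻¹ * (s * d⁻¹ * s⁻¹) = s * (w * d⁻¹) * s⁻¹ := by group
        _ = s * (d⁻¹ * w) * s⁻¹ := by rw [h1.eq]
        _ = s * d⁻¹ * s⁻¹ * (s * w * s⁻¹) := by group
    have hw'o : orderOf w' = 2 := by
      rw [hw', show s * w * s⁻¹ = MulAut.conj s w from rfl, MulEquiv.orderOf_eq, hwo]
    by_cases hfix : w' = w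
    · refine hsH (hcent w hwH hwo (mem_cen.2 ?_))
      exact mul_inv_eq_iff_eq_mul.1 hfix
    have hcomm : Commute w' w := mem_cen.1 (show w' ∈ cen w by rw [cen, ← hCw]; exact hw'd)
    have hww : w * w = 1 := by rw [← pow_two, ← hwo, pow_orderOf_eq_one]
    have hw'w : w' * w' = 1 := by rw [← pow_two, ← hw'o, pow_orderOf_eq_one]
    set v := w * w' with hv
    have hvo : orderOf v = 2 := by
      refine orderOf_eq_prime ?_ fun h1 => hfix ?_
      · rw [hv, hcomm.symm.mul_pow, pow_two, pow_two, hww, hw'w, mul_one]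
      · have := eq_inv_of_mul_eq_one_left h1
        rw [inv_eq_of_mul_eq_one_right hw'w] at this
        exact this.symm
    obtain ⟨-, hvH⟩ := hCeq v (mul_mem hw hw'd) hvo
    refine hsH (hcent v hvH hvo (mem_cen.2 ?_))
    have hsw' : s * w' * s⁻¹ = w := by
      rw [hw', hsi]
      have hs2 : s * s = 1 := by rw [← pow_two, ← hso hs, pow_orderOf_eq_one]
      calc s * (s * w * s) * s = (s * s) * w * (s * s) := by group
        _ = w := by rw [hs2, one_mul, mul_one]
    have h1 : s * v * s⁻¹ = v := by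
      calc s * (w * w') * s⁻¹ = (s * w * s⁻¹) * (s * w' * s⁻¹) := by group
        _ = w' * w := by rw [← hw', hsw']
        _ = w * w' := hcomm.eq
    exact mul_inv_eq_iff_eq_mul.1 h1


theorem false_of_nonabelian (H : CC G a b c R) {t : G} (ht : orderOf t = 2)
    (hna : ¬ IsMulCommutative (cen t)) : False := by
  haveI : Fact (Nat.Prime 2) := ⟨Nat.prime_two⟩
  refine H.false_of_odd fun h2 => hna ?_
  obtain ⟨w, hw, hwo⟩ := exists_involution_mem (K := R) (H.cardR.symm ▸ h2)
  obtain ⟨P, hwP⟩ := exists_sylow_mem (u := w) (s := 2) (i := 1) (by rw [hwo, pow_one])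
  have hPR := H.sylow_le P hwP hw (ne_one_of_two hwo)
  obtain ⟨Q, htQ⟩ := exists_sylow_mem (u := t) (s := 2) (i := 1) (by rw [ht, pow_one])
  obtain ⟨g, hg⟩ := MulAction.exists_smul_eq G P Q
  rw [← hg] at htQ
  obtain ⟨t', ht', hte⟩ := exists_of_mem_smul (show t ∈ g • P from htQ)
  subst hte
  have ht'1 : t' ≠ 1 := fun e => ne_one_of_two ht (by rw [e]; group)
  have hcen := H.cenR t' (hPR ht') ht'1
  refine ⟨⟨fun u v => Subtype.ext ?_⟩⟩
  have hmem : ∀ z ∈ cen (g * t' * g⁻¹), g⁻¹ * z * g ∈ R := fun z hz => by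
    rw [← hcen, ← conj_mem_cen (g := g), show g * (g⁻¹ * z * g) * g⁻¹ = z by group]
    exact hz
  have h1 := H.comm _ (hmem u u.2) _ (hmem v v.2)
  show (u : G) * v = v * u
  calc (u : G) * v = g * ((g⁻¹ * u * g) * (g⁻¹ * v * g)) * g⁻¹ := by group
    _ = g * ((g⁻¹ * v * g) * (g⁻¹ * u * g)) * g⁻¹ := by rw [h1]
    _ = v * u := by group

end CC

/-- No class size properly divides another. -/
def Anti (G : Type u) [Group G] : Prop :=
  ∀ u v : G, u ≠ 1 → v ≠ 1 → cix u ∣ cix v → cix u = cix v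

theorem anti_abelian (hA : Anti G) {t : G} (ht : orderOf t = 2) :
    IsMulCommutative ↥(Subgroup.centralizer ({t} : Set G)) := by
  classical
  haveI : Fact (Nat.Prime 2) := ⟨Nat.prime_two⟩
  have heq : ∀ {u v : G}, u ≠ 1 → v ≠ 1 →
      Subgroup.centralizer ({u} : Set G) ≤ Subgroup.centralizer ({v} : Set G) →
      Subgroup.centralizer ({u} : Set G) = Subgroup.centralizer ({v} : Set G) := fun hu hv hle =>
    cen_eq_of_le hle (hA _ _ hv hu (Subgroup.index_dvd_of_le hle)).symm
  have key : ∀ {p q : G}, p ≠ 1 → q ≠ 1 → Commute p q → (orderOf p).Coprime (orderOf q) →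
      Subgroup.centralizer ({p} : Set G) = Subgroup.centralizer ({q} : Set G) := fun {p q} hp hq h hc => by
    rw [← heq (mul_ne_one_of_coprime hc hp) hp (cen_mul_le h hc),
      ← heq (mul_ne_one_of_coprime hc hp) hq (cen_mul_le' h hc)]
  -- a centraliser of an involution is a `2`-group or abelian
  have dich : ∀ s : G, orderOf s = 2 → IsPGroup 2 (Subgroup.centralizer ({s} : Set G)) ∨
      IsMulCommutative ↥(Subgroup.centralizer ({s} : Set G)) := by
    intro s hs
    set C := Subgroup.centralizer ({s} : Set G) with hC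
    by_cases hall : ∀ g ∈ C, ∀ r : ℕ, r.Prime → r ∣ orderOf g → r = 2
    · left
      intro g
      have h := Nat.eq_prime_pow_of_unique_prime_dvd (orderOf_pos (g : G)).ne' fun {r} hr hd => hall g g.2 r hr hd
      exact ⟨_, Subtype.ext (by rw [SubmonoidClass.coe_pow, ← h, pow_orderOf_eq_one, Subgroup.coe_one])⟩
    · right
      push Not at hall
      obtain ⟨g, hg, r, hr, hrg, hr2⟩ := hall
      set p := g ^ (orderOf g / r) with hp
      have hpo : orderOf p = r := orderOf_pow_orderOf_div (orderOf_pos g).ne' hrg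
      have hp1 : p ≠ 1 := fun h => hr.ne_one (by rw [← hpo, h, orderOf_one])
      have hpC : p ∈ C := pow_mem hg _
      have hCp : Subgroup.centralizer ({p} : Set G) = C :=
        key hp1 (ne_one_of_two hs) (mem_cen.1 hpC)
          (by rw [hpo, hs]; exact (Nat.coprime_primes hr Nat.prime_two).2 hr2)
      have hcentral : ∀ z ∈ C, z ∈ Subgroup.centralizer (C : Set G) := by
        intro z hz
        refine mem_of_primary _ fun j q k hq hjk => ?_
        by_cases h1 : z ^ j = 1
        · rw [h1]; exact one_mem _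
        have hzC : z ^ j ∈ C := pow_mem hz j
        have hCz : Subgroup.centralizer ({z ^ j} : Set G) = C := by
          by_cases hq2 : q = 2
          · refine (key h1 hp1 ?_ ?_).trans hCp
            · exact mem_cen.1 (show z ^ j ∈ cen p by rw [cen, hCp]; exact hzC)
            · rw [hjk, hpo, hq2]
              exact ((Nat.coprime_primes Nat.prime_two hr).2 (Ne.symm hr2)).pow_left k
          · refine key h1 (ne_one_of_two hs) (mem_cen.1 hzC) ?_
            rw [hjk, hs]
            exact ((Nat.coprime_primes hq Nat.prime_two).2 hq2).pow_left k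
        refine Subgroup.mem_centralizer_iff.2 fun w hw => ?_
        exact (mem_cen.1 (hCz.symm ▸ hw : w ∈ Subgroup.centralizer ({z ^ j} : Set G))).eq
      exact ⟨⟨fun u v => Subtype.ext (Subgroup.mem_centralizer_iff.1 (hcentral u u.2) v v.2).symm⟩⟩
  rcases dich t ht with h2 | hab
  swap
  · exact hab
  obtain ⟨P, htP⟩ := h2.exists_le_sylow
  suffices hP : IsMulCommutative ↥(P : Subgroup G) by
    exact ⟨⟨fun u v => Subtype.ext (congrArg Subtype.val (hP.is_comm.comm ⟨u, htP u.2⟩ ⟨v, htP v.2⟩) :)⟩⟩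
  by_contra hP
  -- every involution has a Sylow subgroup as centraliser
  have hodd : ∀ s : G, orderOf s = 2 → ¬ 2 ∣ cix s := by
    intro s hs
    have hz2 : IsPGroup 2 (Subgroup.zpowers s) := IsPGroup.of_card (n := 1) (by rw [Nat.card_zpowers, hs, pow_one])
    obtain ⟨Q, hsQ⟩ := hz2.exists_le_sylow
    have hsQ' : s ∈ (Q : Subgroup G) := hsQ (Subgroup.mem_zpowers s)
    have hne : (Q : Subgroup G) ≠ ⊥ := fun h => ne_one_of_two hs (Subgroup.mem_bot.1 (h ▸ hsQ'))
    haveI : Nontrivial (Q : Subgroup G) := (Subgroup.nontrivial_iff_ne_bot _).2 hne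
    haveI := Q.isPGroup'.center_nontrivial
    obtain ⟨k, hk, hck⟩ :=
      (Q.isPGroup'.to_subgroup (Subgroup.center (Q : Subgroup G))).nontrivial_iff_card.1 inferInstance
    obtain ⟨z₀, hz₀⟩ := exists_prime_orderOf_dvd_card' (G := Subgroup.center (Q : Subgroup G)) 2
      (by rw [hck]; exact dvd_pow_self 2 hk.ne')
    set z : G := ((z₀ : (Q : Subgroup G)) : G) with hz
    have hzo : orderOf z = 2 := by rw [hz, Subgroup.orderOf_coe, Subgroup.orderOf_coe, hz₀]
    have hQz : (Q : Subgroup G) ≤ Subgroup.centralizer ({z} : Set G) := fun q hq =>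
      mem_cen.2 (congrArg Subtype.val (Subgroup.mem_center_iff.1 z₀.2 ⟨q, hq⟩))
    have hQna : ¬ IsMulCommutative ↥(Q : Subgroup G) := by
      intro hQ
      refine hP ?_
      obtain ⟨g, hg⟩ := MulAction.exists_smul_eq G Q P
      have e := (Q.equiv P : ↥(Q : Subgroup G) ≃* ↥(P : Subgroup G))
      exact ⟨⟨fun u v => e.symm.injective (by rw [map_mul, map_mul]; exact hQ.is_comm.comm _ _)⟩⟩
    have hzQ : Subgroup.centralizer ({z} : Set G) = (Q : Subgroup G) := by
      rcases dich z hzo with h2z | habz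
      · exact Q.is_maximal' h2z hQz
      · exact absurd ⟨⟨fun u v => Subtype.ext (congrArg Subtype.val
          (habz.is_comm.comm ⟨u, hQz u.2⟩ ⟨v, hQz v.2⟩) :)⟩⟩ hQna
    have hs2 : IsPGroup 2 (Subgroup.centralizer ({s} : Set G)) := by
      rcases dich s hs with h | h
      · exact h
      · have hzs : z ∈ Subgroup.centralizer ({s} : Set G) :=
          mem_cen.2 (mem_cen.1 (hQz hsQ')).symm
        refine Q.isPGroup'.to_le (hzQ ▸ fun u hu => mem_cen.2 ?_)
        exact congrArg Subtype.val (h.is_comm.comm ⟨u, hu⟩ ⟨z, hzs⟩)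
    have hdvd : Nat.card (Subgroup.centralizer ({s} : Set G)) ∣ Nat.card (Subgroup.centralizer ({z} : Set G)) := by
      obtain ⟨R, hR⟩ := hs2.exists_le_sylow
      rw [hzQ, Nat.card_congr (Q.equiv R).toEquiv]
      exact Subgroup.card_dvd_of_le hR
    have hix : cix z ∣ cix s := by
      obtain ⟨k, hk⟩ := hdvd
      refine ⟨k, ?_⟩
      have h1 := card_mul_cix s
      rw [← card_mul_cix z, hk] at h1
      refine Nat.eq_of_mul_eq_mul_left (Nat.card_pos (α := Subgroup.centralizer ({s} : Set G))) ?_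
      rw [h1]
      ring
    rw [show cix s = cix z from (hA z s (ne_one_of_two hzo) (ne_one_of_two hs) hix).symm, cix, hzQ]
    exact Q.not_dvd_index
  refine hP (Cfsg.Agent.S4355.result (fun w hw => ?_) P)
  obtain ⟨k, hk⟩ := hw
  by_cases hw1 : w = 1
  · subst hw1
    rw [Subgroup.index_eq_one.2 (by simp [Subgroup.centralizer_eq_top_iff_subset])]
    omega
  have hk0 : k ≠ 0 := fun h => hw1 (orderOf_eq_one_iff.1 (by rw [hk, h, pow_zero]))
  set s := w ^ (orderOf w / 2) with hs
  have hso : orderOf s = 2 := orderOf_pow_orderOf_div (orderOf_pos w).ne' (by rw [hk]; exact dvd_pow_self 2 hk0)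
  rw [heq hw1 (ne_one_of_two hso) (centralizer_le_pow w _)]
  exact hodd s hso


/-- The case division. -/
theorem anti_or_t3 (hZ : Subgroup.center G = ⊥) (hns : ¬ Group.IsSolvable G)
    (h : Nat.card {n : ℕ | 1 < n ∧ ∃ x : G, (Subgroup.centralizer ({x} : Set G)).index = n} ≤ 3) :
    Anti G ∨ ∃ a b c : ℕ, T3 G a b c := by
  set I := {n : ℕ | 1 < n ∧ ∃ x : G, (Subgroup.centralizer ({x} : Set G)).index = n} with hI
  have hIfin : I.Finite := (Set.finite_range fun x : G => cix x).subset fun n hn => hn.2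
  rw [Nat.card_coe_set_eq] at h
  refine or_iff_not_imp_left.2 fun hA => ?_
  simp only [Anti, not_forall] at hA
  obtain ⟨u, v, hu, hv, hd, hne⟩ := hA
  have hI1 : ∀ {w : G}, w ≠ 1 → cix w ∈ I := fun {w} hw => ⟨by
    have h0 := cix_pos w
    have h1 : cix w ≠ 1 := fun e => by
      have := cix_eq_one.1 e
      rw [hZ, Subgroup.mem_bot] at this
      exact hw this
    omega, w, rfl⟩
  have hua : 1 < cix u := (hI1 hu).1
  obtain ⟨r, hr, hru⟩ := Nat.exists_prime_and_dvd hua.ne'
  haveI := Fact.mk hr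
  obtain ⟨P⟩ : Nonempty (Sylow r G) := inferInstance
  obtain ⟨z, -, hz1, -, -, hznd⟩ := exists_sylow_center (hru.trans (Subgroup.index_dvd_card _)) P
  have hsub : ({cix u, cix z, cix v} : Set ℕ) ⊆ I := by
    rintro n (rfl | rfl | rfl)
    · exact hI1 hu
    · exact hI1 hz1
    · exact hI1 hv
  have hc3 : ({cix u, cix z, cix v} : Set ℕ).ncard = 3 := by
    refine Set.ncard_eq_three.2 ⟨_, _, _, ?_, hne, ?_, rfl⟩
    · exact fun e => hznd (e ▸ hru)
    · exact fun e => hznd (e ▸ hru.trans hd)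
  have heq := Set.eq_of_subset_of_ncard_le hsub (by omega) hIfin
  have hmem : ∀ w : G, w ≠ 1 → cix w = cix u ∨ cix w = cix z ∨ cix w = cix v := fun w hw => by
    have := hI1 hw
    rwa [← heq] at this
  have hcop : (cix u).Coprime (cix z) := by
    refine Nat.coprime_of_dvd fun d hdp h1 h2 => ?_
    haveI := Fact.mk hdp
    obtain ⟨Q⟩ : Nonempty (Sylow d G) := inferInstance
    obtain ⟨w, -, hw1, -, -, hwnd⟩ := exists_sylow_center (h1.trans (Subgroup.index_dvd_card _)) Q
    rcases hmem w hw1 with e | e | e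
    · exact hwnd (e ▸ h1)
    · exact hwnd (e ▸ h2)
    · exact hwnd (e ▸ h1.trans hd)
  refine ⟨cix u, cix z, cix v, hmem, ⟨u, rfl⟩, ⟨z, rfl⟩, ⟨v, rfl⟩, hcop, hd, hne, hua,
    (hI1 hz1).1, fun e => ?_, fun e => ?_, hZ, hns⟩
  · exact hua.ne' (Nat.eq_one_of_dvd_coprimes hcop dvd_rfl (hd.trans e))
  · refine hns ?_
    have h46 := (Cfsg.Agent.S4146.result (G := G) (cix u) (cix z) hua (hI1 hz1).1 hcop ?_).1
    · exact @IsNilpotent.to_isSolvable _ _ h46
    ext n
    constructor
    · rintro ⟨w, rfl⟩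
      by_cases hw : w = 1
      · exact Or.inl (cix_eq_one.2 (hw ▸ Subgroup.one_mem _))
      rcases hmem w hw with e' | e' | e'
      · exact Or.inr (Or.inl e')
      · exact Or.inr (Or.inr (Or.inl e'))
      · exact Or.inr (Or.inr (Or.inr (e'.trans e)))
    · rintro (rfl | rfl | rfl | rfl)
      · exact ⟨1, cix_eq_one.2 (Subgroup.one_mem _)⟩
      · exact ⟨u, rfl⟩
      · exact ⟨z, rfl⟩
      · exact ⟨v, e⟩

/-- Centreless groups with at most three nontrivial class sizes. -/
theorem classify (hZ : Subgroup.center G = ⊥)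
    (h : Nat.card {n : ℕ | 1 < n ∧ ∃ x : G, (Subgroup.centralizer ({x} : Set G)).index = n} ≤ 3) :
    Group.IsSolvable G ∨ ∃ a : ℕ, 0 < a ∧
      Nonempty (G ≃* Matrix.ProjectiveSpecialLinearGroup (Fin 2) (GaloisField 2 a)) := by
  classical
  haveI : Fact (Nat.Prime 2) := ⟨Nat.prime_two⟩
  refine or_iff_not_imp_left.2 fun hns => ?_
  have heven : Even (Nat.card G) := by
    by_contra hc
    exact hns (Cfsg.Agent.S0205.result (Nat.not_even_iff_odd.mp hc))
  have hab : ∀ t : G, orderOf t = 2 → IsMulCommutative (cen t) := by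
    intro t ht
    by_contra hna
    rcases anti_or_t3 hZ hns h with hA | ⟨a, b, c, T⟩
    · exact hna (anti_abelian hA ht)
    · obtain ⟨R, H⟩ := T.exists_cc
      exact H.false_of_nonabelian ht hna
  rcases Cfsg.Agent.S2202.result heven hab with hcyc | hnorm | ⟨F, i1, i2, A, i3, i4, i5, -, ⟨e⟩⟩
  · obtain ⟨P⟩ : Nonempty (Sylow 2 G) := inferInstance
    haveI := hcyc P
    exact absurd (isSolvable_of_cyclic_sylow_two P) hns
  · obtain ⟨P⟩ : Nonempty (Sylow 2 G) := inferInstance
    haveI := hnorm P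
    refine absurd ((Group.isSolvable_iff_subgroup_quotient (P : Subgroup G)).mpr
      ⟨@IsNilpotent.to_isSolvable _ _ P.isPGroup'.isNilpotent, isSolvable_of_not_two_dvd ?_⟩) hns
    rw [← Subgroup.index_eq_card]
    exact P.not_dvd_index
  have hA1 : ∀ x : A, x = 1 := fun x => by
    have h1 : e.symm (1, x) ∈ Subgroup.center G := Subgroup.mem_center_iff.2 fun g => by
      apply e.injective
      rw [map_mul, map_mul, MulEquiv.apply_symm_apply]
      exact Prod.ext (by simp) (mul_comm _ _)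
    rw [hZ, Subgroup.mem_bot] at h1
    have h2 := congrArg Prod.snd ((MulEquiv.symm_apply_eq e).1 h1)
    simpa using h2
  let f : G →* Matrix.SpecialLinearGroup (Fin 2) F := (MonoidHom.fst _ _).comp e.toMonoidHom
  have hfinj : Function.Injective f := fun p q hpq => e.injective
    (Prod.ext hpq (by rw [hA1 (e p).2, hA1 (e q).2]))
  have hfsurj : Function.Surjective f := fun z => ⟨e.symm (z, 1), by simp [f]⟩
  let e₁ : G ≃* Matrix.SpecialLinearGroup (Fin 2) F := MulEquiv.ofBijective f ⟨hfinj, hfsurj⟩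
  haveI := i5
  have h2 : (2 : F) = 0 := CharTwo.two_eq_zero
  obtain ⟨n, -, hF⟩ := FiniteField.card F 2
  haveI : Fintype (GaloisField 2 (n : ℕ)) := Fintype.ofFinite _
  have hc : Fintype.card (GaloisField 2 (n : ℕ)) = 2 ^ (n : ℕ) := by
    rw [← Nat.card_eq_fintype_card, GaloisField.card 2 (n : ℕ) n.pos.ne']
  obtain ⟨k⟩ := Dickson.nonempty_psl_congr (FiniteField.ringEquivOfCardEq (hF.trans hc.symm))
  refine ⟨n, n.pos, ⟨?_⟩⟩
  exact (e₁.trans ((QuotientGroup.quotientBot (G := Matrix.SpecialLinearGroup (Fin 2) F)).symm.trans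
    (QuotientGroup.quotientMulEquivOfEq (Fus.CTSimple.center_eq_bot_of_two h2).symm))).trans k

end Cfsg.Agent.Transfer.ClassThree
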