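import Cfsg.Agent.Lib.Transfer.ClassThree.Basic

/-!
Centreless groups with three nontrivial class sizes: the size `b` does not divide `c`.
-/

set_option autoImplicit false
set_option maxHeartbeats 1000000

open scoped Pointwise

universe u

namespace Cfsg.Agent.Transfer.ClassThree

open Cfsg Cfsg.Agent Cfsg.Agent.Transfer.ClassDisconnected

variable {G : Type u} [Group G] [Finite G]

theorem cix_inv' (w : G) : cix w⁻¹ = cix w := by
  refine congrArg Subgroup.index ?_
  ext g
  rw [mem_cen, mem_cen, Commute.inv_right_iff]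

/-- The quotients of conjugates of `x` move the class of `y` onto itself. -/
theorem mul_mem_cl {x y : G} (h : (cix x).Coprime (cix y)) (he : cix (x * y) = cix y) {m : G}
    (hm : m ∈ Subgroup.normalClosure (Set.range fun g : G => x⁻¹ * (g * x * g⁻¹))) :
    m * y ∈ cl y := by
  have himg : ∀ g : G, ((g * x * g⁻¹) * ·) '' cl y = cl (x * y) := by
    intro g
    refine Set.eq_of_subset_of_ncard_le ?_ ?_ (Set.toFinite _)
    · rintro _ ⟨w, hw, rfl⟩
      obtain ⟨k, rfl⟩ := isConj_iff.1 hw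
      refine (exists_conj_mul h (g⁻¹ * k)).trans (isConj_iff.2 ⟨g, ?_⟩)
      group
    · rw [Set.ncard_image_of_injective _ (mul_right_injective _), ncard_cl, ncard_cl, he]
  have hle : Subgroup.normalClosure (Set.range fun g : G => x⁻¹ * (g * x * g⁻¹)) ≤
      MulAction.stabilizer G (cl y) := by
    rw [Subgroup.normalClosure, Subgroup.closure_le]
    intro v hv
    obtain ⟨z, ⟨g, rfl⟩, hc⟩ := Group.mem_conjugatesOfSet_iff.1 hv
    obtain ⟨k, rfl⟩ := isConj_iff.1 hc
    rw [SetLike.mem_coe, MulAction.mem_stabilizer_iff]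
    have hinj : Function.Injective (Set.image ((k * x * k⁻¹) * ·) : Set G → Set G) :=
      Set.image_injective.2 (mul_right_injective _)
    refine hinj ?_
    rw [← Set.image_smul, Set.image_image, himg k, ← himg (k * g)]
    refine Set.image_congr' fun w => ?_
    simp only [smul_eq_mul]
    group
  have h1 := MulAction.mem_stabilizer_iff.1 (hle hm)
  rw [← h1]
  exact ⟨y, show IsConj y y from IsConj.refl y, rfl⟩

namespace T3

variable {a b c : ℕ}

theorem no_dvd_aux (T : T3 G a b c) (hlt : a < b) (hab : a * b ∣ c) : False := by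
  obtain ⟨x, r, i, hr, hxo, hx⟩ := T.exists_primary_a
  haveI := Fact.mk hr
  have hco : ∀ {y : G}, cix y = b → (cix x).Coprime (cix y) := fun hy => by rw [hx, hy]; exact T.cop
  have hxy : ∀ {y : G}, cix y = b → cix (x * y) = cix y := by
    intro y hy
    have h1 : x * y ≠ 1 := fun e => T.ne_ab (by
      rw [← hx, ← hy, eq_inv_of_mul_eq_one_left e, cix_inv'])
    have h2 := le_cix_mul (hco hy)
    have h3 := cix_mul_dvd (hco hy)
    rw [hx, hy] at h3
    rcases T.mem _ h1 with h | h | h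
    · omega
    · rw [h, hy]
    · exact absurd (Nat.dvd_antisymm (h ▸ h3) hab) T.ne_mul
  obtain ⟨y₁, hy₁⟩ := T.exB
  set M := Subgroup.normalClosure (Set.range fun g : G => x⁻¹ * (g * x * g⁻¹)) with hM
  have hMcard : Nat.card M ∣ b := by
    rw [← hy₁]
    exact card_normalClosure_dvd (hco hy₁) (hxy hy₁)
  have hMcen : ∀ {x' : G}, cix x' = a → M ≤ cen x' := by
    intro x' hx'
    refine Subgroup.relIndex_eq_one.1 (Nat.eq_one_of_dvd_coprimes (T.cop) ?_
      ((Subgroup.index_dvd_card _).trans hMcard))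
    exact hx' ▸ Kazarin.relIndex_dvd_index _ _
  have hgen : ∀ s ∈ Group.conjugatesOfSet (Set.range fun g : G => x⁻¹ * (g * x * g⁻¹)),
      s ^ r ^ i = 1 ∧ ∀ m ∈ M, Commute s m := by
    intro s hs
    have hsM : s ∈ M := Subgroup.subset_closure hs
    obtain ⟨z, ⟨g, rfl⟩, hc⟩ := Group.mem_conjugatesOfSet_iff.1 hs
    obtain ⟨k, rfl⟩ := isConj_iff.1 hc
    have heq : k * (x⁻¹ * (g * x * g⁻¹)) * k⁻¹ =
        (k * x * k⁻¹)⁻¹ * (k * g * x * (k * g)⁻¹) := by group
    have h1 : cix (k * x * k⁻¹) = a := (cix_conj k x).trans hx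
    have h2 : cix (k * g * x * (k * g)⁻¹) = a := (cix_conj (k * g) x).trans hx
    refine ⟨?_, fun m hm => ?_⟩
    · rw [heq] at hsM ⊢
      refine pow_eq_one_of_commute (mem_cen.1 (hMcen h1 hsM)).symm ?_ ?_
      · rw [← orderOf_dvd_iff_pow_eq_one, orderOf_conj', hxo]
      · rw [← orderOf_dvd_iff_pow_eq_one, orderOf_conj', hxo]
    · rw [heq]
      exact ((mem_cen.1 (hMcen h1 hm)).symm.inv_left).mul_left (mem_cen.1 (hMcen h2 hm)).symm
  have hMab : ∀ u ∈ M, ∀ v ∈ M, Commute u v := by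
    intro u hu v hv
    refine Subgroup.closure_induction (p := fun w _ => Commute w v) (fun w hw => (hgen w hw).2 v hv)
      (Commute.one_left v) (fun _ _ _ _ h1 h2 => h1.mul_left h2) (fun _ _ h1 => h1.inv_left) hu
  have hMexp : ∀ u ∈ M, u ^ r ^ i = 1 := by
    intro u hu
    refine Subgroup.closure_induction (p := fun w _ => w ^ r ^ i = 1) (fun w hw => (hgen w hw).1)
      (one_pow _) (fun v w hv hw h1 h2 => ?_) (fun v _ h1 => by rw [inv_pow, h1, inv_one]) hu
    rw [(hMab v hv w hw).mul_pow, h1, h2, mul_one]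
  obtain ⟨m, hmM, hm1⟩ : ∃ m ∈ M, m ≠ 1 := by
    by_contra hc
    push Not at hc
    refine T.ne_one_a hx (T.center_top fun g => ?_)
    have := hc _ (Subgroup.subset_normalClosure ⟨g, rfl⟩)
    exact mul_inv_eq_iff_eq_mul.1 (inv_mul_eq_one.1 this).symm
  have hmr : ∃ j, orderOf m = r ^ j := by
    obtain ⟨j, -, hj⟩ := (Nat.dvd_prime_pow hr).1 (orderOf_dvd_of_pow_eq_one (hMexp m hmM))
    exact ⟨j, hj⟩
  have hrb : r ∣ b := by
    obtain ⟨j, hj⟩ := hmr
    refine dvd_trans ?_ ((M.orderOf_dvd_natCard hmM).trans hMcard)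
    rw [hj]
    exact dvd_pow_self r fun h => hm1 (orderOf_eq_one_iff.1 (by rw [hj, h, pow_zero]))
  obtain ⟨r₀, hr₀, hr₀a⟩ := Nat.exists_prime_and_dvd T.ha.ne'
  haveI := Fact.mk hr₀
  have hne : r₀ ≠ r := by
    rintro rfl
    exact hr₀.ne_one (Nat.eq_one_of_dvd_coprimes T.cop hr₀a hrb)
  -- elements of order `r₀` of class size `b` act without fixed points on `M`
  have zfpf : ∀ {z : G}, orderOf z = r₀ → cix z = b → ¬ Commute m z := by
    intro z hzo hz hcomm
    obtain ⟨k, hk⟩ := isConj_iff.1 (mul_mem_cl (hco hz) (hxy hz) hmM)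
    obtain ⟨j, hj⟩ := hmr
    have h1 : orderOf (m * z) = orderOf z := by
      rw [← hk, orderOf_conj']
    rw [hcomm.orderOf_mul_eq_mul_orderOf_of_coprime (by
      rw [hj, hzo]; exact ((Nat.coprime_primes hr hr₀).2 (Ne.symm hne)).pow_left j)] at h1
    exact hm1 (orderOf_eq_one_iff.1 ((mul_eq_right₀ (orderOf_pos z).ne').1 h1))
  have hcoprime : ∀ {u : G}, orderOf u = r₀ → (orderOf x).Coprime (orderOf u) := fun hu => by
    rw [hxo, hu]; exact ((Nat.coprime_primes hr hr₀).2 (Ne.symm hne)).pow_left i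
  have hCx : ¬ r₀ ∣ Nat.card (cen x) := by
    intro hd
    obtain ⟨⟨w, hwx⟩, hwo⟩ := exists_prime_orderOf_dvd_card' (G := cen x) r₀ hd
    rw [Subgroup.orderOf_mk] at hwo
    have hw1 := ne_one_of_prime hr₀ hwo
    obtain ⟨P, hwP⟩ := exists_sylow_mem (u := w) (s := r₀) (i := 1) (by rw [hwo, pow_one])
    obtain ⟨z, hzP, hz1, hzo, hzc, hznd⟩ := exists_sylow_center (hr₀a.trans T.a_dvd_card) P
    have hzb := T.dvd_cases hr₀ hr₀a hz1 hznd
    rcases T.mem w hw1 with h | h | h
    · haveI : M.Normal := Subgroup.normalClosure_normal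
      haveI : (Subgroup.centralizer (M : Set G)).Normal := Subgroup.normal_centralizer
      have hwM : w ∈ Subgroup.centralizer (M : Set G) := Subgroup.mem_centralizer_iff.2 fun v hv =>
        (mem_cen.1 (hMcen h hv)).eq
      obtain ⟨z', hz'M, hz'P, hz'1, hz'o, -, hz'nd⟩ := normal_inf_sylow_center
        (Q := Subgroup.centralizer (M : Set G)) P (fun e => hw1 (by
          rw [← Subgroup.mem_bot, ← e]; exact ⟨hwM, hwP⟩))
      exact zfpf hz'o (T.dvd_cases hr₀ hr₀a hz'1 hz'nd) (Subgroup.mem_centralizer_iff.1 hz'M m hmM)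
    · exact T.not_commute hx h (hcoprime hwo) (mem_cen.1 hwx).symm
    · have hle := T.minimal h (mem_cen.1 hwx) (hcoprime hwo).symm
      exact T.not_commute hx hzb (hcoprime hzo)
        (mem_cen.1 (hle (mem_cen.2 (mem_cen.1 (hzc hwP)).symm))).symm
  obtain ⟨P⟩ : Nonempty (Sylow r₀ G) := inferInstance
  obtain ⟨z, -, hz1, hzo, -, hznd⟩ := exists_sylow_center (hr₀a.trans T.a_dvd_card) P
  have hzb := T.dvd_cases hr₀ hr₀a hz1 hznd
  have hD := Grp.HallConv.index_inf_of_coprime (H := cen x) (K := cen z) (hco hzb)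
  have hDne : cen x ⊓ cen z ≠ ⊥ := by
    intro e
    rw [e, Subgroup.index_bot, show (cen x).index = a from hx, show (cen z).index = b from hzb] at hD
    obtain ⟨v, hv⟩ := T.exC
    exact T.ne_mul (Nat.dvd_antisymm (hD ▸ hv ▸ Subgroup.index_dvd_card _) hab)
  obtain ⟨d', hd', hd'1⟩ := (Subgroup.bot_or_exists_ne_one _).resolve_left hDne
  obtain ⟨s, j, hs, hdo, -⟩ := exists_prime_order_pow hd'1
  set d := d' ^ j
  have hdD : d ∈ cen x ⊓ cen z := Subgroup.pow_mem _ hd' j
  have hdz : Commute d z := mem_cen.1 hdD.2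
  have hsr : s ≠ r₀ := fun e => hCx (by
    rw [← e, ← hdo]; exact Subgroup.orderOf_dvd_natCard _ hdD.1)
  have hcdz : (orderOf d).Coprime (orderOf z) := by
    rw [hdo, hzo]; exact (Nat.coprime_primes hs hr₀).2 hsr
  have hd1 : d ≠ 1 := ne_one_of_prime hs hdo
  have hb : b ∣ cix (d * z) := hzb ▸ Subgroup.index_dvd_of_le (cen_mul_le' hdz hcdz)
  rcases T.mem _ (mul_ne_one_of_coprime hcdz hd1) with h | h | h
  · exact T.not_ba (h ▸ hb)
  · have he : cen (d * z) = cen z := cen_eq_of_le (cen_mul_le' hdz hcdz) (h.trans hzb.symm)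
    have hle : cen z ≤ cen d := he ▸ cen_mul_le hdz hcdz
    have hd2 : cix d ∣ b := hzb ▸ Subgroup.index_dvd_of_le hle
    have hdb : cix d = b := by
      rcases T.mem d hd1 with h' | h' | h'
      · exact absurd (h' ▸ hd2) T.not_ab
      · exact h'
      · exact absurd (h' ▸ hd2) T.not_cb
    have hxd : x ∈ cen d := mem_cen.2 (mem_cen.1 hdD.1).symm
    rw [← cen_eq_of_le hle (hzb.trans hdb.symm)] at hxd
    exact T.not_commute hx hzb (hcoprime hzo) (mem_cen.1 hxd)
  · refine hCx ?_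
    have h1 : r₀ ∣ Nat.card (cen (d * z)) := hzo ▸ Subgroup.orderOf_dvd_natCard _
      (mem_cen.2 ((hdz.symm).mul_right (Commute.refl z)))
    obtain ⟨k, hk⟩ := T.adc
    have h2 := card_mul_cix (d * z)
    rw [h, hk, ← card_mul_cix x, hx] at h2
    have h3 : Nat.card (cen (d * z)) * k = Nat.card (cen x) :=
      Nat.eq_of_mul_eq_mul_right (by have := T.ha; omega : 0 < a) (by rw [← h2]; ring)
    exact h3 ▸ h1.mul_right k

theorem not_bc (T : T3 G a b c) : ¬ b ∣ c := by
  intro h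
  have hab : a * b ∣ c := T.cop.mul_dvd_of_dvd_of_dvd T.adc h
  rcases lt_or_gt_of_ne T.ne_ab with hlt | hlt
  · exact T.no_dvd_aux hlt hab
  · refine no_dvd_aux (G := G) (a := b) (b := a) (c := c)
      ⟨fun w hw => ?_, T.exB, T.exA, T.exC, T.cop.symm, h, T.ne_cb.symm, T.hb, T.ha,
        T.not_ca, fun e => T.ne_mul (by rw [e, mul_comm]), T.hZ, T.hns⟩ hlt (by rwa [mul_comm])
    rcases T.mem w hw with h' | h' | h'
    · exact Or.inr (Or.inl h')
    · exact Or.inl h'
    · exact Or.inr (Or.inr h')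

end T3

end Cfsg.Agent.Transfer.ClassThree
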