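import Cfsg.Agent.Lib.Transfer.ClassThree.NoDvd
import Cfsg.Agent.Lib.Transfer.ClassThree.Tools
import Cfsg.Agent.Lib.Grp.Zassenhaus.Basics
import Cfsg.Agent.Lib.Fus.CaminaPairBasic
import Cfsg.Agent.S4355

/-!
Three class sizes: the centralisers of the elements of class size `b` are not all `q`-groups with a
nonabelian Sylow `q`-subgroup.
-/

set_option autoImplicit false
set_option maxHeartbeats 1000000

universe u

namespace Cfsg.Agent.Transfer.ClassThree

open Cfsg Cfsg.Agent Cfsg.Agent.Transfer.ClassDisconnected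

variable {G : Type u} [Group G] [Finite G]

/-- All centralisers of elements of class size `b` are Sylow `q`-subgroups. -/
structure QG (G : Type u) [Group G] (a b c q : ℕ) : Prop where
  t3 : T3 G a b c
  prime : q.Prime
  a_pow : ∃ i, a = q ^ i
  not_dvd_b : ¬ q ∣ b
  centB : ∀ y : G, cix y = b → IsPGroup q (cen y)
  card : ∃ n, Nat.card G = q ^ n * b

namespace QG

variable {a b c q : ℕ}

theorem dvd_a (Q : QG G a b c q) : q ∣ a := by
  obtain ⟨i, hi⟩ := Q.a_pow
  rw [hi]
  refine dvd_pow_self q fun h => ?_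
  have := Q.t3.ha
  rw [hi, h, pow_zero] at this
  omega

omit [Finite G] in
theorem not_b (Q : QG G a b c q) {u v : G} {s : ℕ} (hs : s.Prime) (hsq : s ≠ q) (ho : orderOf u = s)
    (hu : u ∈ cen v) : cix v ≠ b := by
  intro hb
  haveI := Fact.mk Q.prime
  obtain ⟨k, hk⟩ := IsPGroup.iff_orderOf.1 (Q.centB v hb) ⟨u, hu⟩
  rw [Subgroup.orderOf_mk, ho] at hk
  rcases Nat.eq_zero_or_pos k with rfl | hk0
  · exact hs.ne_one (by rw [hk, pow_zero])
  · exact hsq ((Nat.prime_dvd_prime_iff_eq Q.prime hs).1 (hk ▸ dvd_pow_self q hk0.ne')).symm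

theorem cases_ac (Q : QG G a b c q) {u v : G} {s : ℕ} (hs : s.Prime) (hsq : s ≠ q) (ho : orderOf u = s)
    (hu : u ∈ cen v) (hv : v ≠ 1) : cix v = a ∨ cix v = c := by
  rcases Q.t3.mem v hv with h | h | h
  · exact Or.inl h
  · exact absurd h (Q.not_b hs hsq ho hu)
  · exact Or.inr h

theorem sylow_eq_cen (Q : QG G a b c q) [Fact q.Prime] {y : G} (hy : cix y = b) (P : Sylow q G)
    (hP : (P : Subgroup G) ≤ cen y) : cen y = P := P.is_maximal' (Q.centB y hy) hP

theorem exists_sylow_cen (Q : QG G a b c q) [Fact q.Prime] {y : G} (hy : cix y = b) :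
    ∃ P : Sylow q G, cen y = P := by
  obtain ⟨P, hP⟩ := exists_sylow_le_centralizer (r := q) (u := y)
    (fun h => Q.not_dvd_b (hy ▸ h))
  exact ⟨P, Q.sylow_eq_cen hy P hP⟩

theorem q_dvd_card (Q : QG G a b c q) : q ∣ Nat.card G := Q.dvd_a.trans Q.t3.a_dvd_card

theorem exists_center (Q : QG G a b c q) [Fact q.Prime] (P : Sylow q G) :
    ∃ z ∈ (P : Subgroup G), orderOf z = q ∧ cix z = b ∧ cen z = P := by
  obtain ⟨z, hzP, hz1, hzo, hzc, hznd⟩ := exists_sylow_center Q.q_dvd_card P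
  have hzb := Q.t3.dvd_cases Q.prime Q.dvd_a hz1 hznd
  exact ⟨z, hzP, hzo, hzb, Q.sylow_eq_cen hzb P hzc⟩

theorem mem_pCore_of_a (Q : QG G a b c q) [Fact q.Prime] {x : G} {i : ℕ} (hx : cix x = a)
    (hxo : orderOf x = q ^ i) : x ∈ pCore q G := by
  obtain ⟨P, hxP⟩ := exists_sylow_mem hxo
  have hcop : (cen x).index.Coprime (P : Subgroup G).index := by
    obtain ⟨j, hj⟩ := Q.a_pow
    rw [show (cen x).index = q ^ j from hx.trans hj]
    exact ((Q.prime.coprime_iff_not_dvd).2 P.not_dvd_index).pow_left j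
  have hle : Subgroup.normalClosure ({x} : Set G) ≤ (P : Subgroup G) := by
    rw [Subgroup.normalClosure, Subgroup.closure_le]
    intro z hz
    obtain ⟨x', hx', hc⟩ := Group.mem_conjugatesOfSet_iff.1 hz
    rw [Set.mem_singleton_iff] at hx'
    subst hx'
    obtain ⟨g, rfl⟩ := isConj_iff.1 hc
    obtain ⟨p, hp, d, hd, rfl⟩ := Grp.HallConv.exists_mul_of_coprime hcop g
    rw [show p * d * x' * (p * d)⁻¹ = p * (d * x' * d⁻¹) * p⁻¹ by group, (mem_cen.1 hd).eq,
      mul_inv_cancel_right]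
    exact mul_mem (mul_mem hp hxP) (inv_mem hp)
  exact Grp.le_pCore Subgroup.normalClosure_normal (P.isPGroup'.to_le hle)
    (Subgroup.subset_normalClosure rfl)

/-- The subgroups of order prime to `q` with trivial `q`-core. -/
theorem false_of_core_eq_bot (Q : QG G a b c q) [Fact q.Prime] (hO : pCore q G = ⊥) (P : Sylow q G)
    (hP : ¬ IsMulCommutative (P : Subgroup G)) : False := by
  classical
  obtain ⟨x, hx⟩ := Q.t3.exA
  obtain ⟨i, hi⟩ := Q.a_pow
  have hxF : x ∈ fittingSubgroup G := Kazarin.mem_fitting hO (show (cen x).index = q ^ i from hx.trans hi)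
  obtain ⟨s, hs, hsne⟩ : ∃ s : ℕ, s.Prime ∧ pCore s G ≠ ⊥ := by
    by_contra hcon
    push Not at hcon
    refine Q.t3.ne_one_a hx ?_
    rw [Grp.fittingSubgroup_eq_iSup_pCore, iSup_eq_bot.2 fun p : Nat.Primes => hcon (p : ℕ) p.2] at hxF
    exact Subgroup.mem_bot.1 hxF
  haveI := Fact.mk hs
  have hsq : s ≠ q := fun e => hsne (e ▸ hO)
  haveI hSn : (pCore s G).Normal := Grp.pCore_isNormal
  have hSp : IsPGroup s (pCore s G) := Grp.pCore_isPGroup
  set A := pCore s G ⊓ Subgroup.centralizer (pCore s G : Set G) with hA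
  haveI hAn : A.Normal := Subgroup.normal_inf_normal _ _
  have hAab : ∀ u ∈ A, ∀ v ∈ A, u * v = v * u := fun u hu v hv =>
    (Subgroup.mem_centralizer_iff.1 hu.2 v hv.1).symm
  have hAne : A ≠ ⊥ := by
    haveI : Nontrivial (pCore s G) := (Subgroup.nontrivial_iff_ne_bot _).2 hsne
    haveI := hSp.center_nontrivial
    obtain ⟨z, hz⟩ := exists_ne (1 : Subgroup.center (pCore s G))
    refine fun e => hz (Subtype.ext (Subtype.ext ?_))
    have h1 : ((z : pCore s G) : G) ∈ A := ⟨z.1.2, Subgroup.mem_centralizer_iff.2 fun v hv =>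
      congrArg Subtype.val (Subgroup.mem_center_iff.1 z.2 ⟨v, hv⟩)⟩
    rw [e, Subgroup.mem_bot] at h1
    exact h1
  have hAord : ∀ {v : G}, v ∈ A → v ≠ 1 → ∃ j, orderOf (v ^ j) = s := by
    intro v hv hv1
    obtain ⟨k, hk⟩ := exists_pow_of_mem hSp hv.1
    have hk0 : k ≠ 0 := fun e => hv1 (orderOf_eq_one_iff.1 (by rw [hk, e, pow_zero]))
    exact ⟨orderOf v / s, orderOf_pow_orderOf_div (orderOf_pos v).ne' (hk ▸ dvd_pow_self s hk0)⟩
  have hzfpf : ∀ {z : G}, cix z = b → ∀ v ∈ A, Commute z v → v = 1 := by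
    intro z hz v hv hzv
    by_contra hv1
    obtain ⟨j, hj⟩ := hAord hv hv1
    exact Q.not_b hs hsq hj (mem_cen.2 ((hzv.symm).pow_left j)) hz
  have hord : ∀ {w : G}, orderOf w = q → ∀ v ∈ A, Commute w v → v = 1 := by
    intro w hw v hv hwv
    have hw1 := ne_one_of_prime Q.prime hw
    obtain ⟨R, hwR⟩ := exists_sylow_mem (u := w) (s := q) (i := 1) (by rw [hw, pow_one])
    obtain ⟨z, -, hzo, hzb, hzR⟩ := Q.exists_center R
    rcases Q.t3.mem w hw1 with h | h | h
    · have h1 := Q.mem_pCore_of_a h (i := 1) (by rw [hw, pow_one])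
      rw [hO, Subgroup.mem_bot] at h1
      exact absurd h1 hw1
    · exact hzfpf h v hv hwv
    · by_contra hv1
      obtain ⟨k, hk⟩ := exists_pow_of_mem hSp hv.1
      have hle := Q.t3.minimal h hwv (by
        rw [hw, hk]; exact ((Nat.coprime_primes Q.prime hs).2 (Ne.symm hsq)).pow_right k)
      exact hv1 (hzfpf hzb v hv (mem_cen.1 (hle (mem_cen.2
        (mem_cen.1 (hzR.symm ▸ hwR : w ∈ cen z)).symm))))
  have hall : ∀ w ∈ (P : Subgroup G), w ≠ 1 → ∀ v ∈ A, Commute w v → v = 1 := by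
    intro w hw hw1 v hv hwv
    obtain ⟨k, hk⟩ := exists_pow_of_mem P.isPGroup' hw
    have hk0 : k ≠ 0 := fun e => hw1 (orderOf_eq_one_iff.1 (by rw [hk, e, pow_zero]))
    exact hord (w := w ^ (orderOf w / q))
      (orderOf_pow_orderOf_div (orderOf_pos w).ne' (hk ▸ dvd_pow_self q hk0)) v hv (hwv.pow_left _)
  by_cases hq2 : q = 2
  swap
  · haveI : Nontrivial A := (Subgroup.nontrivial_iff_ne_bot A).2 hAne
    haveI : Nontrivial (P : Subgroup G) :=
      (Subgroup.nontrivial_iff_ne_bot _).2 (P.ne_bot_of_dvd_card Q.q_dvd_card)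
    have hH := Grp.Zas.hasFpf_of_fpf_aut
      ((MulAut.conjNormal : G →* MulAut A).comp (P : Subgroup G).subtype) fun w hw v hv => by
        refine Subtype.ext (hall w w.2 (fun e => hw (Subtype.ext e)) v v.2 ?_)
        have h1 := congrArg Subtype.val hv
        rw [MonoidHom.comp_apply, MulAut.conjNormal_apply] at h1
        exact mul_inv_eq_iff_eq_mul.1 h1
    obtain ⟨R⟩ : Nonempty (Sylow q (P : Subgroup G)) := inferInstance
    rcases hH.sylow_cases R with h | ⟨e, -⟩
    · have hR : (R : Subgroup (P : Subgroup G)) = ⊤ :=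
        (R.is_maximal' (Q := ⊤) (P.isPGroup'.of_equiv Subgroup.topEquiv.symm) le_top).symm
      rw [hR] at h
      haveI := h
      haveI : IsCyclic (P : Subgroup G) :=
        isCyclic_of_surjective Subgroup.topEquiv.toMonoidHom Subgroup.topEquiv.surjective
      exact hP ⟨⟨(IsCyclic.commGroup (α := (P : Subgroup G))).mul_comm⟩⟩
    · exact hq2 e
  subst hq2
  obtain ⟨t, htP, hto, htb, htcen⟩ := Q.exists_center P
  have ht2 : t * t = 1 := by rw [← pow_two, ← hto, pow_orderOf_eq_one]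
  set K := Subgroup.centralizer (A : Set G) with hK
  haveI : K.Normal := Subgroup.normal_centralizer
  have hKodd : ¬ 2 ∣ Nat.card K := by
    intro hd
    obtain ⟨⟨w, hwK⟩, hwo⟩ := exists_prime_orderOf_dvd_card' (G := K) 2 hd
    rw [Subgroup.orderOf_mk] at hwo
    refine hAne ((Subgroup.eq_bot_iff_forall _).2 fun v hv => ?_)
    exact hord hwo v hv (Subgroup.mem_centralizer_iff.1 hwK v hv).symm
  have hinv : ∀ {w : G}, orderOf w = 2 → ∀ v ∈ A, w * v * w⁻¹ = v⁻¹ := fun hw v hv =>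
    inverts_of_fpf hAab (by rw [← pow_two, ← hw, pow_orderOf_eq_one]) (fun v' h h' => hord hw v' h h') hv
  haveI : Group.IsSolvable K := isSolvable_of_not_two_dvd hKodd
  haveI : Group.IsSolvable (cen t) := by
    rw [htcen]
    exact @IsNilpotent.to_isSolvable _ _ P.isPGroup'.isNilpotent
  refine Q.t3.hns (isSolvable_of_cover K (cen t) fun g => ?_)
  have hmem : t * (g * t * g⁻¹) ∈ K := Subgroup.mem_centralizer_iff.2 fun v hv => by
    have h1 := hinv (w := g * t * g⁻¹) (by rw [orderOf_conj', hto]) v hv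
    have h2 := hinv hto _ (A.inv_mem hv)
    rw [inv_inv] at h2
    have h3 : t * (g * t * g⁻¹) * v * (t * (g * t * g⁻¹))⁻¹ = v := by
      conv_rhs => rw [← h2, ← h1]
      group
    exact (mul_inv_eq_iff_eq_mul.1 h3).symm
  obtain ⟨k, hk, hkc⟩ := cover hKodd ht2 g hmem
  exact ⟨k, hk, mem_cen.2 hkc⟩

/-- The subgroup of the core all of whose nontrivial elements have class size `b`. -/
theorem exists_module (Q : QG G a b c q) [Fact q.Prime] (hO : pCore q G ≠ ⊥) :
    ∃ U : Subgroup G, U.Normal ∧ U ≤ pCore q G ∧ U ≠ ⊥ ∧ (∀ u ∈ U, ∀ v ∈ U, u * v = v * u) ∧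
      (∀ v ∈ U, v ≠ 1 → cix v = b) ∧ Subgroup.centralizer (pCore q G : Set G) ≤ pCore q G := by
  classical
  have T := Q.t3
  set O := pCore q G with hOdef
  haveI hOn : O.Normal := Grp.pCore_isNormal
  have hOp : IsPGroup q O := Grp.pCore_isPGroup
  obtain ⟨P⟩ : Nonempty (Sylow q G) := inferInstance
  have hOP : O ≤ (P : Subgroup G) := hOp.le_sylow_of_normal P
  obtain ⟨v₀, hv₀O, hv₀P, hv₀1, -, hv₀c, hv₀nd⟩ := normal_inf_sylow_center (Q := O) P
    (by rw [inf_eq_left.2 hOP]; exact hO)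
  have hv₀b := T.dvd_cases Q.prime Q.dvd_a hv₀1 hv₀nd
  haveI hCn : (Subgroup.centralizer (O : Set G)).Normal := Subgroup.normal_centralizer
  have hCO : Subgroup.centralizer (O : Set G) ≤ O := by
    refine Grp.le_pCore hCn ((Q.centB v₀ hv₀b).to_le fun g hg => mem_cen.2 ?_)
    exact (Subgroup.mem_centralizer_iff.1 hg v₀ hv₀O).symm
  set T₀ := O ⊓ Subgroup.centralizer (O : Set G) with hT₀
  haveI hT₀n : T₀.Normal := Subgroup.normal_inf_normal _ _
  have hT₀ab : ∀ u ∈ T₀, ∀ v ∈ T₀, u * v = v * u := fun u hu v hv =>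
    (Subgroup.mem_centralizer_iff.1 hu.2 v hv.1).symm
  have hv₀T : v₀ ∈ T₀ := ⟨hv₀O, Subgroup.mem_centralizer_iff.2 fun w hw =>
    (mem_cen.1 (hv₀c (hOP hw))).eq⟩
  -- no element of class size `c` in `T₀`
  have noc : ∀ v ∈ T₀, cix v ≠ c := by
    intro v hv hvc
    obtain ⟨n, hn⟩ := Q.card
    have hcard := card_mul_cix v
    rw [hvc, hn] at hcard
    obtain ⟨s, hs, hsd, hsq⟩ : ∃ s : ℕ, s.Prime ∧ s ∣ Nat.card (cen v) ∧ s ≠ q := by
      by_contra hcon
      push Not at hcon
      have hpw := Nat.eq_prime_pow_of_unique_prime_dvd (Nat.card_pos (α := cen v)).ne'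
        fun {d} hd hdd => hcon d hd hdd
      refine T.not_bc ?_
      have h1 : b ∣ q ^ (Nat.card (cen v)).primeFactorsList.length * c := by
        rw [← hpw, hcard]; exact dvd_mul_left _ _
      exact (((Q.prime.coprime_iff_not_dvd).2 Q.not_dvd_b).symm.pow_right _).dvd_of_dvd_mul_left h1
    haveI := Fact.mk hs
    obtain ⟨⟨u, huv⟩, huo⟩ := exists_prime_orderOf_dvd_card' (G := cen v) s hsd
    rw [Subgroup.orderOf_mk] at huo
    obtain ⟨k, hk⟩ := exists_pow_of_mem hOp hv.1
    have hle := T.minimal hvc (mem_cen.1 huv).symm (by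
      rw [hk, huo]; exact ((Nat.coprime_primes Q.prime hs).2 (Ne.symm hsq)).pow_left k)
    have huO : u ∈ O := hCO (Subgroup.mem_centralizer_iff.2 fun w hw => by
      have h1 : w ∈ cen v := mem_cen.2 (Subgroup.mem_centralizer_iff.1 hv.2 w hw)
      exact (mem_cen.1 (hle h1)).eq)
    obtain ⟨l, hl⟩ := exists_pow_of_mem hOp huO
    rcases Nat.eq_zero_or_pos l with rfl | hl0
    · exact hs.ne_one (by rw [← huo, hl, pow_zero])
    · exact hsq ((Nat.prime_dvd_prime_iff_eq Q.prime hs).1 (huo ▸ hl ▸ dvd_pow_self q hl0.ne')).symm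
  by_cases hall : ∀ v ∈ T₀, v ≠ 1 → cix v = b
  · exact ⟨T₀, hT₀n, inf_le_left, fun e => hv₀1 (by rw [e, Subgroup.mem_bot] at hv₀T; exact hv₀T),
      hT₀ab, hall, hCO⟩
  push Not at hall
  obtain ⟨x, hxT, hx1, hxb⟩ := hall
  have hxa : cix x = a := by
    rcases T.mem x hx1 with h | h | h
    · exact h
    · exact absurd h hxb
    · exact absurd h (noc x hxT)
  have hgenle : ∀ {u : G}, u ∈ T₀ →
      Subgroup.normalClosure (Set.range fun g : G => u⁻¹ * (g * u * g⁻¹)) ≤ T₀ := by
    intro u hu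
    refine Subgroup.normalClosure_le_normal ?_
    rintro _ ⟨g, rfl⟩
    exact T₀.mul_mem (T₀.inv_mem hu) (hT₀n.conj_mem u hu g)
  have hgenne : ∀ {u : G}, u ≠ 1 →
      Subgroup.normalClosure (Set.range fun g : G => u⁻¹ * (g * u * g⁻¹)) ≠ ⊥ := by
    intro u hu e
    refine hu (T.center_top fun g => ?_)
    have h1 : u⁻¹ * (g * u * g⁻¹) ∈ (⊥ : Subgroup G) := e ▸ Subgroup.subset_normalClosure ⟨g, rfl⟩
    exact mul_inv_eq_iff_eq_mul.1 (inv_mul_eq_one.1 (Subgroup.mem_bot.1 h1)).symm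
  -- a product of elements of class sizes `a` and `b` in `T₀` has class size `a`
  have hprod : ∀ x' ∈ T₀, cix x' = a → (cix v₀).Coprime (cix x') ∧ cix (v₀ * x') = cix x' := by
    intro x' hx'T hx'a
    have hco : (cix x').Coprime (cix v₀) := by rw [hx'a, hv₀b]; exact T.cop
    refine ⟨hco.symm, ?_⟩
    have hne : v₀ * x' ≠ 1 := fun e => T.ne_ab (by
      rw [← hx'a, ← hv₀b, eq_inv_of_mul_eq_one_left e, cix_inv'])
    rcases T.mem _ hne with h | h | h
    · rw [h, hx'a]
    · exfalso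
      rw [hT₀ab v₀ hv₀T x' hx'T] at h
      have h1 := card_normalClosure_dvd hco (h.trans hv₀b.symm)
      obtain ⟨j, hj⟩ := IsPGroup.iff_card.1 (hOp.to_le ((hgenle hx'T).trans inf_le_left))
      rw [hv₀b, hj] at h1
      refine hgenne (T.ne_one_a hx'a) (Subgroup.eq_bot_of_card_eq _ ?_)
      rw [hj]
      rcases Nat.eq_zero_or_pos j with rfl | hj0
      · exact pow_zero q
      · exact absurd ((dvd_pow_self q hj0.ne').trans h1) Q.not_dvd_b
    · exact absurd h (noc _ (T₀.mul_mem hv₀T hx'T))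
  refine ⟨Subgroup.normalClosure (Set.range fun g : G => v₀⁻¹ * (g * v₀ * g⁻¹)),
    Subgroup.normalClosure_normal, (hgenle hv₀T).trans inf_le_left, hgenne hv₀1,
    fun u hu v hv => hT₀ab u (hgenle hv₀T hu) v (hgenle hv₀T hv), fun v hv hv1 => ?_, hCO⟩
  rcases T.mem v hv1 with h | h | h
  · exfalso
    obtain ⟨hco, he⟩ := hprod v (hgenle hv₀T hv) h
    obtain ⟨g, hg⟩ := isConj_iff.1 (mul_mem_cl hco he (Subgroup.inv_mem _ hv))
    rw [inv_mul_cancel] at hg
    exact hv1 (conj_eq_one_iff.1 hg)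
  · exact h
  · exact absurd h (noc v (hgenle hv₀T hv))

/-- The case of a nontrivial `q`-core. -/
theorem false_of_core_ne_bot (Q : QG G a b c q) [Fact q.Prime] (hO : pCore q G ≠ ⊥) : False := by
  classical
  haveI : Fact (Nat.Prime 2) := ⟨Nat.prime_two⟩
  have T := Q.t3
  obtain ⟨U, hUn, hUO, hUne, hUab, hUb, hCO⟩ := Q.exists_module hO
  haveI := hUn
  set O := pCore q G with hOdef
  haveI hOn : O.Normal := Grp.pCore_isNormal
  have hOp : IsPGroup q O := Grp.pCore_isPGroup
  have hfix : ∀ {u : G} {s : ℕ}, s.Prime → s ≠ q → orderOf u = s → ∀ v ∈ U, Commute u v → v = 1 := by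
    intro u s hs hsq ho v hv huv
    by_contra hv1
    exact Q.not_b hs hsq ho (mem_cen.2 huv) (hUb v hv hv1)
  obtain ⟨P⟩ : Nonempty (Sylow q G) := inferInstance
  have hOP : O ≤ (P : Subgroup G) := hOp.le_sylow_of_normal P
  obtain ⟨n, hn⟩ := Q.card
  have hPO : (P : Subgroup G) ≤ O := by
    intro w hw
    by_contra hwO
    have hw1 : w ≠ 1 := fun e => hwO (e ▸ O.one_mem)
    obtain ⟨k, hk⟩ := exists_pow_of_mem P.isPGroup' hw
    rcases T.mem w hw1 with h | h | h
    · exact hwO (Q.mem_pCore_of_a h hk)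
    · obtain ⟨R, hR⟩ := Q.exists_sylow_cen h
      refine hwO (hCO (Subgroup.mem_centralizer_iff.2 fun v hv => ?_))
      have h1 : v ∈ cen w := hR ▸ hOp.le_sylow_of_normal R hv
      exact (mem_cen.1 h1).eq
    · obtain ⟨z, hzU, -, hz1, -, hzc, -⟩ := normal_inf_sylow_center (Q := U) P
        (by rw [inf_eq_left.2 (hUO.trans hOP)]; exact hUne)
      obtain ⟨s, hs, hsd, hsq⟩ : ∃ s : ℕ, s.Prime ∧ s ∣ Nat.card (cen w) ∧ s ≠ q := by
        by_contra hcon
        push Not at hcon
        have hpw := Nat.eq_prime_pow_of_unique_prime_dvd (Nat.card_pos (α := cen w)).ne'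
          fun {d} hd hdd => hcon d hd hdd
        refine T.not_bc ?_
        have hcard := card_mul_cix w
        rw [h, hn, hpw] at hcard
        have h1 : b ∣ q ^ (Nat.card (cen w)).primeFactorsList.length * c := hcard ▸ dvd_mul_left _ _
        exact (((Q.prime.coprime_iff_not_dvd).2 Q.not_dvd_b).symm.pow_right _).dvd_of_dvd_mul_left h1
      haveI := Fact.mk hs
      obtain ⟨⟨u, huw⟩, huo⟩ := exists_prime_orderOf_dvd_card' (G := cen w) s hsd
      rw [Subgroup.orderOf_mk] at huo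
      have hle := T.minimal h (mem_cen.1 huw).symm (by
        rw [hk, huo]; exact ((Nat.coprime_primes Q.prime hs).2 (Ne.symm hsq)).pow_left k)
      exact hz1 (hfix hs hsq huo z hzU (mem_cen.1 (hle (mem_cen.2 (mem_cen.1 (hzc hw)).symm))).symm)
  have hPeq : (P : Subgroup G) = O := le_antisymm hPO hOP
  haveI : Group.IsSolvable O := @IsNilpotent.to_isSolvable _ _ hOp.isNilpotent
  by_cases h2 : 2 ∣ Nat.card (G ⧸ O)
  swap
  · exact T.hns ((Group.isSolvable_iff_subgroup_quotient O).mpr ⟨inferInstance, isSolvable_of_not_two_dvd h2⟩)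
  have hq2 : q ≠ 2 := by
    rintro rfl
    rw [← Subgroup.index_eq_card, ← hPeq] at h2
    exact P.not_dvd_index h2
  obtain ⟨t, hto⟩ := exists_prime_orderOf_dvd_card' (G := G) 2 (h2.trans (Subgroup.card_quotient_dvd_card O))
  have ht1 := ne_one_of_prime Nat.prime_two hto
  have ht2 : t * t = 1 := by rw [← pow_two, ← hto, pow_orderOf_eq_one]
  have hOodd : ¬ 2 ∣ Nat.card O := by
    obtain ⟨j, hj⟩ := IsPGroup.iff_card.1 hOp
    rw [hj]
    intro h
    exact hq2 ((Nat.prime_dvd_prime_iff_eq Nat.prime_two Q.prime).1 (Nat.prime_two.dvd_of_dvd_pow h)).symm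
  have hCU : Subgroup.centralizer (U : Set G) ≤ O := by
    haveI : (Subgroup.centralizer (U : Set G)).Normal := Subgroup.normal_centralizer
    obtain ⟨v, hv, hv1⟩ := (Subgroup.bot_or_exists_ne_one U).resolve_left hUne
    refine Grp.le_pCore inferInstance ((Q.centB v (hUb v hv hv1)).to_le fun g hg => mem_cen.2 ?_)
    exact (Subgroup.mem_centralizer_iff.1 hg v hv).symm
  have hinv : ∀ {w : G}, orderOf w = 2 → ∀ v ∈ U, w * v * w⁻¹ = v⁻¹ := fun hw v hv =>
    inverts_of_fpf hUab (by rw [← pow_two, ← hw, pow_orderOf_eq_one])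
      (fun v' h h' => hfix Nat.prime_two (Ne.symm hq2) hw v' h h') hv
  have hprodO : ∀ {w : G}, orderOf w = 2 → t * w ∈ O := by
    intro w hw
    refine hCU (Subgroup.mem_centralizer_iff.2 fun v hv => ?_)
    have h1 := hinv hw v hv
    have h2 := hinv hto _ (U.inv_mem hv)
    rw [inv_inv] at h2
    have h3 : t * w * v * (t * w)⁻¹ = v := by
      conv_rhs => rw [← h2, ← h1]
      group
    exact (mul_inv_eq_iff_eq_mul.1 h3).symm
  have hcover : ∀ g : G, ∃ k ∈ O, k * g ∈ cen t := fun g => by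
    obtain ⟨k, hk, hkc⟩ := cover hOodd ht2 g (hprodO (by rw [orderOf_conj', hto]))
    exact ⟨k, hk, mem_cen.2 hkc⟩
  have hone : ∀ {w : G}, orderOf w = 2 → w ∈ cen t → w = t := by
    intro w hw hwt
    by_contra hne
    refine hOodd ?_
    have h1 : orderOf (t * w) = 2 := by
      refine orderOf_eq_prime ?_ fun e => hne ?_
      · rw [(mem_cen.1 hwt).symm.mul_pow, pow_two, pow_two, ht2, one_mul, ← pow_two, ← hw, pow_orderOf_eq_one]
      · rw [← inv_eq_of_mul_eq_one_right e, inv_eq_of_mul_eq_one_right ht2]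
    exact h1 ▸ O.orderOf_dvd_natCard (hprodO hw)
  have htac : cix t = a ∨ cix t = c :=
    Q.cases_ac Nat.prime_two (Ne.symm hq2) hto (self_mem_cen t) ht1
  -- the centraliser of `t` has order prime to `q`
  have hCq : ¬ q ∣ Nat.card (cen t) := by
    intro hd
    obtain ⟨⟨w, hwt⟩, hwo⟩ := exists_prime_orderOf_dvd_card' (G := cen t) q hd
    rw [Subgroup.orderOf_mk] at hwo
    have hw1 := ne_one_of_prime Q.prime hwo
    obtain ⟨R, hwR⟩ := exists_sylow_mem (u := w) (s := q) (i := 1) (by rw [hwo, pow_one])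
    obtain ⟨z, hzU, -, hz1, -, hzc, -⟩ := normal_inf_sylow_center (Q := U) R
      (by rw [inf_eq_left.2 (hUO.trans (hOp.le_sylow_of_normal R))]; exact hUne)
    have hzw : z ∈ cen w := mem_cen.2 (mem_cen.1 (hzc hwR)).symm
    have hzt : ¬ z ∈ cen t := fun h =>
      hz1 (hfix Nat.prime_two (Ne.symm hq2) hto z hzU (mem_cen.1 h).symm)
    have hcow : (orderOf w).Coprime (orderOf t) := by
      rw [hwo, hto]; exact (Nat.coprime_primes Q.prime Nat.prime_two).2 hq2
    rcases T.mem w hw1 with h | h | h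
    swap
    · exact Q.not_b Nat.prime_two (Ne.symm hq2) hto (mem_cen.2 (mem_cen.1 hwt).symm) h
    swap
    · exact hzt (T.minimal h (mem_cen.1 hwt) hcow hzw)
    -- `w` has class size `a`
    have h2a : ¬ 2 ∣ a := by
      obtain ⟨i, hi⟩ := Q.a_pow
      rw [hi]
      intro hd2
      exact hq2 ((Nat.prime_dvd_prime_iff_eq Nat.prime_two Q.prime).1 (Nat.prime_two.dvd_of_dvd_pow hd2)).symm
    have htw : t ∈ cen w := mem_cen.2 (mem_cen.1 hwt).symm
    obtain ⟨R₀, hR₀⟩ := ((isPGroup_zpowers (u := (⟨t, htw⟩ : cen w)) (s := 2) (i := 1)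
      (by rw [Subgroup.orderOf_mk, hto, pow_one]))).exists_le_sylow
    set S := (R₀ : Subgroup (cen w)).map (cen w).subtype with hS
    have htS : t ∈ S := ⟨⟨t, htw⟩, hR₀ (Subgroup.mem_zpowers _), rfl⟩
    have hScard : Nat.card S = 2 ^ (Nat.card G).factorization 2 := by
      rw [hS, Subgroup.card_map_of_injective (cen w).subtype_injective, R₀.card_eq_multiplicity,
        ← card_mul_cix w, Nat.factorization_mul Nat.card_pos.ne' (cix_pos w).ne', Finsupp.add_apply,
        Nat.factorization_eq_zero_of_not_dvd (show ¬ 2 ∣ cix w by rw [h]; exact h2a), add_zero]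
    set S' : Sylow 2 G := Sylow.ofCard S hScard
    obtain ⟨z₂, hz₂S, -, hz₂o, hz₂c, -⟩ := exists_sylow_center (hto ▸ orderOf_dvd_natCard t) S'
    have hz₂t : z₂ = t := hone hz₂o (mem_cen.2 (mem_cen.1 (hz₂c (show t ∈ (S' : Subgroup G) by
      rw [Sylow.coe_ofCard]; exact htS))).symm)
    subst hz₂t
    rw [Sylow.coe_ofCard] at hz₂c
    have hSwt : S ≤ cen (w * z₂) := fun v hv => mem_cen.2
      ((mem_cen.1 (Subgroup.map_subtype_le _ hv)).mul_right (mem_cen.1 (hz₂c hv)))
    have hodd_wt : ¬ 2 ∣ cix (w * z₂) := by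
      intro hd2
      exact S'.not_dvd_index (hd2.trans (Subgroup.index_dvd_of_le
        (by rw [Sylow.coe_ofCard]; exact hSwt)))
    have hdvd : a ∣ cix (w * z₂) := h ▸ Subgroup.index_dvd_of_le (cen_mul_le (mem_cen.1 hwt) hcow)
    rcases T.mem _ (mul_ne_one_of_coprime hcow hw1) with h' | h' | h'
    · have he := cen_eq_of_le (cen_mul_le (mem_cen.1 hwt) hcow) (h'.trans h.symm)
      exact hzt (cen_mul_le' (mem_cen.1 hwt) hcow (he.symm ▸ hzw))
    · exact T.not_ab (h' ▸ hdvd)
    -- every 2-element has odd class size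
    rw [h'] at hodd_wt
    obtain ⟨S₂, hS₂⟩ := exists_sylow_le_centralizer (r := 2) (u := z₂) (by
      rcases htac with e | e <;> rw [show cix z₂ = _ from e] <;> assumption)
    have hab2 : IsMulCommutative (S₂ : Subgroup G) := by
      refine Cfsg.Agent.S4355.result (fun v hv => ?_) S₂
      obtain ⟨l, hl⟩ := hv
      by_cases hv1 : v = 1
      · subst hv1
        rw [Subgroup.index_eq_one.2 (by simp [Subgroup.centralizer_eq_top_iff_subset])]
        omega
      have hl0 : l ≠ 0 := fun e => hv1 (orderOf_eq_one_iff.1 (by rw [hl, e, pow_zero]))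
      rcases Q.cases_ac (u := v ^ (orderOf v / 2)) (v := v) Nat.prime_two (Ne.symm hq2)
        (orderOf_pow_orderOf_div (orderOf_pos v).ne' (hl ▸ dvd_pow_self 2 hl0))
        (Subgroup.pow_mem _ (self_mem_cen v) _) hv1 with e | e <;>
        rw [show (Subgroup.centralizer ({v} : Set G)).index = _ from e] <;> assumption
    have hcyc : IsCyclic (S₂ : Subgroup G) := by
      letI : CommGroup (S₂ : Subgroup G) :=
        { (inferInstance : Group (S₂ : Subgroup G)) with mul_comm := hab2.is_comm.comm }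
      refine Fus.isCyclic_of_unique_order_prime (q := 2) S₂.isPGroup' fun u v hu hv hu1 => ?_
      have key : ∀ y : (S₂ : Subgroup G), y ^ 2 = 1 → y ≠ 1 → (y : G) = z₂ := fun y hy hy1 =>
        hone (orderOf_eq_prime (by rw [← SubmonoidClass.coe_pow, hy, Subgroup.coe_one])
          fun e => hy1 (Subtype.ext e)) (hS₂ y.2)
      by_cases hv1 : v = 1
      · rw [hv1]; exact one_mem _
      · rw [show v = u from Subtype.ext ((key v hv hv1).trans (key u hu hu1).symm)]
        exact Subgroup.mem_zpowers u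
    haveI := hcyc
    exact T.hns (isSolvable_of_cyclic_sylow_two S₂)
  -- the centraliser of `t` has at most two class sizes
  have hCsol : Group.IsSolvable (cen t) := by
    refine isSolvable_two (c / cix t) fun u => ?_
    obtain ⟨u', hu'1, hu'q, heq⟩ : ∃ u' : G, u' ≠ 1 ∧ t ∈ cen u' ∧ cen u' = cen (u : G) ⊓ cen t := by
      have hut : Commute (u : G) t := mem_cen.1 u.2
      by_cases h2u : 2 ∣ orderOf (u : G)
      · have hw : (u : G) ^ (orderOf (u : G) / 2) = t :=
          hone (orderOf_pow_orderOf_div (orderOf_pos _).ne' h2u) (Subgroup.pow_mem _ u.2 _)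
        refine ⟨u, fun e => ?_, mem_cen.2 hut.symm, (inf_eq_left.2 ?_).symm⟩
        · rw [e, orderOf_one] at h2u
          omega
        · exact (centralizer_le_pow _ _).trans (le_of_eq (congrArg (fun v : G => cen v) hw))
      · have hco : (orderOf t).Coprime (orderOf (u : G)) := by
          rw [hto]; exact (Nat.prime_two.coprime_iff_not_dvd).2 h2u
        refine ⟨t * u, mul_ne_one_of_coprime hco ht1, mem_cen.2 ((Commute.refl t).mul_right hut.symm), ?_⟩
        refine le_antisymm (le_inf (cen_mul_le' hut.symm hco) (cen_mul_le hut.symm hco)) fun g hg => ?_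
        exact mem_cen.2 ((mem_cen.1 hg.2).mul_right (mem_cen.1 hg.1))
    have hrel : (cen (u : G)).subgroupOf (cen t) = Subgroup.centralizer ({u} : Set (cen t)) := by
      ext g
      rw [Subgroup.mem_subgroupOf, mem_cen, Subgroup.mem_centralizer_singleton_iff]
      exact ⟨fun hg => Subtype.ext hg, fun hg => congrArg Subtype.val hg⟩
    have hidx : cix u * cix t = cix u' := by
      have h1 : cix u = (cen u').relIndex (cen t) := by
        rw [show cix u = (Subgroup.centralizer ({u} : Set (cen t))).index from rfl, ← hrel, heq,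
          Subgroup.inf_relIndex_right]
        rfl
      rw [h1]
      exact Subgroup.relIndex_mul_index (heq ▸ inf_le_right)
    rcases Q.cases_ac Nat.prime_two (Ne.symm hq2) hto hu'q hu'1 with e | e
    · left
      rcases htac with e' | e'
      · rw [e, e'] at hidx
        exact Nat.eq_of_mul_eq_mul_right (by have := T.ha; omega : 0 < a) (by rw [hidx, one_mul])
      · rw [e, e'] at hidx
        exact absurd (hidx ▸ dvd_mul_left c _) T.not_ca
    · right
      rw [e] at hidx
      rw [← hidx, Nat.mul_div_cancel _ (cix_pos t)]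
  exact T.hns (isSolvable_of_cover O (cen t) hcover)

theorem false (Q : QG G a b c q) [Fact q.Prime] (P : Sylow q G)
    (hP : ¬ IsMulCommutative (P : Subgroup G)) : False := by
  by_cases hO : pCore q G = ⊥
  · exact Q.false_of_core_eq_bot hO P hP
  · exact Q.false_of_core_ne_bot hO

end QG

end Cfsg.Agent.Transfer.ClassThree
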